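import Groth.Agent.SiteCoh.Free
import Mathlib.Algebra.Homology.DerivedCategory.Ext.Map
import Mathlib.CategoryTheory.Abelian.GrothendieckCategory.EnoughInjectives

/-!
Comparison of `Ext` groups along an exact functor with a universal element in degree zero.
-/

universe u

open CategoryTheory CategoryTheory.Limits CategoryTheory.Abelian

namespace Groth.Agent.SiteCoh

variable {A : Type*} [Category A] [Abelian A] [HasExt.{u} A]
  {B : Type*} [Category B] [Abelian B] [HasExt.{u} B]
  (G : A ⥤ B) [G.Additive] [PreservesFiniteLimits G] [PreservesFiniteColimits G]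
  {X : B} {X' : A} (η : X ⟶ G.obj X')

/-- `ξ ↦ η ≫ G ξ` on `Ext`. -/
noncomputable def extTransfer (F : A) (n : ℕ) : Ext.{u} X' F n →+ Ext.{u} X (G.obj F) n :=
  ((Ext.mk₀ η).precomp (G.obj F) (zero_add n)).comp (G.mapExtAddHom X' F n)

lemma extTransfer_apply {F : A} {n : ℕ} (ξ : Ext.{u} X' F n) :
    extTransfer G η F n ξ = (Ext.mk₀ η).comp (ξ.mapExactFunctor G) (zero_add n) :=
  rfl

lemma extTransfer_mk₀ {F : A} (φ : X' ⟶ F) :
    extTransfer G η F 0 (Ext.mk₀ φ) = Ext.mk₀ (η ≫ G.map φ) := by
  rw [extTransfer_apply, Ext.mapExactFunctor_mk₀, Ext.mk₀_comp_mk₀]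

lemma extTransfer_comp {F F' : A} {n a m : ℕ} (ξ : Ext.{u} X' F n) (γ : Ext.{u} F F' a)
    (h : n + a = m) :
    extTransfer G η F' m (ξ.comp γ h) = (extTransfer G η F n ξ).comp (γ.mapExactFunctor G) h := by
  rw [extTransfer_apply, extTransfer_apply, Ext.mapExactFunctor_comp,
    Ext.comp_assoc _ _ _ (zero_add n) h (by omega)]

lemma extTransfer_naturality {F F' : A} {n : ℕ} (ξ : Ext.{u} X' F n) (f : F ⟶ F') :
    extTransfer G η F' n (ξ.comp (Ext.mk₀ f) (add_zero n)) =
      (extTransfer G η F n ξ).comp (Ext.mk₀ (G.map f)) (add_zero n) := by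
  rw [extTransfer_comp, Ext.mapExactFunctor_mk₀]

variable [EnoughInjectives A]

/-- The comparison is bijective if it is so in degree zero and `G` of injectives is acyclic. -/
theorem extTransfer_bijective
    (h0 : ∀ F : A, Function.Bijective fun φ : X' ⟶ F => η ≫ G.map φ)
    (hinj : ∀ (J : A), Injective J → ∀ n : ℕ, Subsingleton (Ext.{u} X (G.obj J) (n + 1))) :
    ∀ (n : ℕ) (F : A), Function.Bijective (extTransfer G η F n) := by
  intro n
  induction n with
  | zero =>
    intro F
    have e : (extTransfer G η F 0 : Ext.{u} X' F 0 → Ext.{u} X (G.obj F) 0) =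
        Ext.addEquiv₀.symm ∘ (fun φ => η ≫ G.map φ) ∘ Ext.addEquiv₀ := by
      funext ξ
      obtain ⟨φ, rfl⟩ := Ext.addEquiv₀.symm.surjective ξ
      simp only [Function.comp_apply, AddEquiv.apply_symm_apply]
      exact extTransfer_mk₀ G η φ
    rw [e]
    exact Ext.addEquiv₀.symm.bijective.comp ((h0 F).comp Ext.addEquiv₀.bijective)
  | succ n ih =>
    intro F
    let S : ShortComplex A :=
      ShortComplex.mk (Injective.ι F) (cokernel.π (Injective.ι F)) (cokernel.condition _)
    have hS : S.ShortExact :=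
      { exact := ShortComplex.exact_of_g_is_cokernel _ (cokernelIsCokernel (Injective.ι F))
        mono_f := inferInstanceAs (Mono (Injective.ι F))
        epi_g := inferInstanceAs (Epi (cokernel.π _)) }
    have hG := hS.map_of_exact G
    have : Subsingleton (Ext.{u} X' S.X₂ (n + 1)) :=
      Ext.subsingleton_of_injective X' (Injective.under F) n
    have : Subsingleton (Ext.{u} X (S.map G).X₂ (n + 1)) :=
      hinj (Injective.under F) inferInstance n
    constructor
    · refine (injective_iff_map_eq_zero _).2 fun ξ hξ => ?_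
      obtain ⟨s, rfl⟩ := exists_comp_extClass hS X' n ξ
      rw [extTransfer_comp, Ext.mapExactFunctor_extClass G hS] at hξ
      obtain ⟨t, ht⟩ := Ext.covariant_sequence_exact₃ X hG (extTransfer G η S.X₃ n s) rfl hξ
      obtain ⟨t, rfl⟩ := (ih S.X₂).2 t
      have : t.comp (Ext.mk₀ S.g) (add_zero n) = s :=
        (ih S.X₃).1 ((extTransfer_naturality G η t S.g).trans ht)
      rw [← this, Ext.comp_assoc _ _ _ (add_zero n) (zero_add 1) (by omega), hS.comp_extClass,
        Ext.comp_zero]
    · intro ξ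
      obtain ⟨s, rfl⟩ := exists_comp_extClass hG X n ξ
      obtain ⟨s, rfl⟩ := (ih S.X₃).2 s
      exact ⟨s.comp hS.extClass rfl, by rw [extTransfer_comp, Ext.mapExactFunctor_extClass G hS]; rfl⟩

end Groth.Agent.SiteCoh
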