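import Groth.Agent.SiteCoh.FreeSet
import Mathlib.CategoryTheory.Abelian.Exact
import Mathlib.LinearAlgebra.Finsupp.VectorSpace

/-!
A criterion for total acyclicity: extension of morphisms along short exact sequences of
torsion-free abelian sheaves.
-/

universe u

open CategoryTheory CategoryTheory.Limits Opposite CategoryTheory.Abelian

namespace Groth.Agent.SiteCoh

section Kill

variable {A : Type*} [Category A] [Abelian A] [HasExt.{u} A] [EnoughInjectives A]

/-- A class of positive degree is killed by some epimorphism. -/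
theorem exists_epi_comp_eq_zero (n : ℕ) :
    ∀ (Y X : A) (ξ : Ext.{u} X Y (n + 1)), ∃ (E : A) (e : E ⟶ X), Epi e ∧
      (Ext.mk₀ e).comp ξ (zero_add (n + 1)) = 0 := by
  have hS : ∀ Y : A, (ShortComplex.mk (Injective.ι Y) (cokernel.π (Injective.ι Y))
      (cokernel.condition _)).ShortExact := fun Y =>
    { exact := ShortComplex.exact_of_g_is_cokernel _ (cokernelIsCokernel (Injective.ι Y))
      mono_f := inferInstance
      epi_g := inferInstance }
  induction n with
  | zero =>
    intro Y X ξ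
    have : Subsingleton (Ext.{u} X (Injective.under Y) (0 + 1)) :=
      Ext.subsingleton_of_injective _ _ 0
    obtain ⟨s, rfl⟩ := exists_comp_extClass (hS Y) X 0 ξ
    obtain ⟨s, rfl⟩ := Ext.addEquiv₀.symm.surjective s
    refine ⟨pullback s (cokernel.π (Injective.ι Y)), pullback.fst _ _, inferInstance, ?_⟩
    have e : (Ext.mk₀ (pullback.fst s (cokernel.π (Injective.ι Y)))).comp
        (Ext.addEquiv₀.symm s) (zero_add 0) =
        (Ext.mk₀ (pullback.snd s (cokernel.π (Injective.ι Y)))).comp
          (Ext.mk₀ (cokernel.π (Injective.ι Y))) (zero_add 0) := by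
      rw [Ext.mk₀_comp_mk₀, ← pullback.condition]
      exact Ext.mk₀_comp_mk₀ _ _
    rw [← Ext.comp_assoc _ _ _ (zero_add 0) (zero_add 1) (by omega), e,
      Ext.comp_assoc _ _ _ (zero_add 0) (zero_add 1) (by omega), (hS Y).comp_extClass,
      Ext.comp_zero]
  | succ n ih =>
    intro Y X ξ
    have : Subsingleton (Ext.{u} X (Injective.under Y) (n + 1 + 1)) :=
      Ext.subsingleton_of_injective _ _ (n + 1)
    obtain ⟨s, rfl⟩ := exists_comp_extClass (hS Y) X (n + 1) ξ
    obtain ⟨E, e, he, h⟩ := ih _ _ s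
    refine ⟨E, e, he, ?_⟩
    rw [← Ext.comp_assoc _ _ _ (zero_add (n + 1)) rfl (by omega), h, Ext.zero_comp]

end Kill

variable {C : Type u} [SmallCategory C] {J : GrothendieckTopology C}

/-- An abelian sheaf whose groups of sections are torsion-free. -/
def TorFree (A : Sheaf J AddCommGrpCat.{u}) : Prop :=
  ∀ (U : C) (n : ℕ) (x : A.obj.obj (op U)), n ≠ 0 → n • x = 0 → x = 0

lemma torFree_iff_mono (A : Sheaf J AddCommGrpCat.{u}) :
    TorFree A ↔ ∀ n : ℕ, n ≠ 0 → Mono (n • 𝟙 A) := by
  have key : ∀ (n : ℕ) (U : C) (x : A.obj.obj (op U)), (n • 𝟙 A).hom.app (op U) x = n • x := by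
    intro n U x
    induction n with
    | zero => simp only [zero_smul]; rfl
    | succ n ih =>
      rw [succ_nsmul, succ_nsmul]
      exact congrArg (· + x) ih
  constructor
  · intro h n hn
    have : ∀ U : Cᵒᵖ, Mono ((n • 𝟙 A).hom.app U) := fun U => by
      rw [AddCommGrpCat.mono_iff_injective, injective_iff_map_eq_zero]
      exact fun x hx => h U.unop n x hn (by rw [← key]; exact hx)
    have : Mono ((sheafToPresheaf J _).map (n • 𝟙 A)) :=
      @NatTrans.mono_of_mono_app _ _ _ _ _ _ _ this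
    exact (sheafToPresheaf J _).mono_of_mono_map this
  · intro h U n x hn hx
    have := h n hn
    have h1 : Mono (((sheafToPresheaf J _).map (n • 𝟙 A)).app (op U)) :=
      (NatTrans.mono_iff_mono_app _).1 inferInstance _
    exact (AddCommGrpCat.mono_iff_injective _).1 h1
      ((key n U x).trans (hx.trans (map_zero ((n • 𝟙 A).hom.app (op U)).hom).symm))

lemma TorFree.of_mono {A B : Sheaf J AddCommGrpCat.{u}} (f : A ⟶ B) [Mono f] (h : TorFree B) :
    TorFree A := by
  intro U n x hn hx
  have h1 : Mono (((sheafToPresheaf J _).map f).app (op U)) :=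
    (NatTrans.mono_iff_mono_app _).1 inferInstance _
  apply (AddCommGrpCat.mono_iff_injective _).1 h1
  refine (h U n _ hn ?_).trans (map_zero _).symm
  rw [← map_nsmul, hx, map_zero]

lemma TorFree.map {D : Type u} [SmallCategory D] {K : GrothendieckTopology D}
    (G : Sheaf J AddCommGrpCat.{u} ⥤ Sheaf K AddCommGrpCat.{u}) [G.Additive]
    [G.PreservesMonomorphisms] {A : Sheaf J AddCommGrpCat.{u}} (h : TorFree A) :
    TorFree (G.obj A) := by
  rw [torFree_iff_mono] at h ⊢
  intro n hn
  have := h n hn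
  rw [← G.map_id, ← G.map_nsmul]
  infer_instance

lemma freeAbelianGroup_nsmul_eq_zero {α : Type*} {x : FreeAbelianGroup α} {n : ℕ} (hn : n ≠ 0)
    (h : n • x = 0) : x = 0 := by
  apply (FreeAbelianGroup.equivFinsupp α).injective
  have h' : n • FreeAbelianGroup.equivFinsupp α x = 0 := by rw [← map_nsmul, h, map_zero]
  ext a
  have := DFunLike.congr_fun h' a
  simpa [hn] using this

variable (J) in
lemma torFree_sheafify_free (G : Cᵒᵖ ⥤ Type u) :
    TorFree ((presheafToSheaf J AddCommGrpCat.{u}).obj (G ⋙ AddCommGrpCat.free.{u})) := by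
  rw [torFree_iff_mono]
  intro n hn
  rw [← (presheafToSheaf J AddCommGrpCat.{u}).map_id, ← Functor.map_nsmul]
  have : ∀ U : Cᵒᵖ, Mono ((n • 𝟙 (G ⋙ AddCommGrpCat.free.{u})).app U) := fun U => by
    rw [AddCommGrpCat.mono_iff_injective, injective_iff_map_eq_zero]
    intro x hx
    refine freeAbelianGroup_nsmul_eq_zero hn (Eq.trans ?_ hx)
    simp
    rfl
  have := NatTrans.mono_of_mono_app (n • 𝟙 (G ⋙ AddCommGrpCat.free.{u}))
  infer_instance

/-- Morphisms from a torsion-free sheaf to `F` extend along monomorphisms with torsion-free cokernel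
into torsion-free sheaves. -/
def TorExtends (F : Sheaf J AddCommGrpCat.{u}) : Prop :=
  ∀ S : ShortComplex (Sheaf J AddCommGrpCat.{u}), S.ShortExact → TorFree S.X₁ → TorFree S.X₂ →
    TorFree S.X₃ → ∀ φ : S.X₁ ⟶ F, ∃ ψ : S.X₂ ⟶ F, S.f ≫ ψ = φ

lemma torExtends_of_injective (F : Sheaf J AddCommGrpCat.{u}) [Injective F] : TorExtends F := by
  intro S hS _ _ _ φ
  have := hS.mono_f
  exact ⟨Injective.factorThru φ S.f, Injective.comp_factorThru φ S.f⟩

/-- Every sheaf is a quotient of a free, hence torsion-free, sheaf. -/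
lemma exists_torFree_epi (E : Sheaf J AddCommGrpCat.{u}) :
    ∃ (P : Sheaf J AddCommGrpCat.{u}) (p : P ⟶ E), TorFree P ∧ Epi p :=
  ⟨_, (freeAbAdj J).counit.app E, torFree_sheafify_free J _, inferInstance⟩

/-- Positive `Ext` groups out of torsion-free sheaves vanish when morphisms extend. -/
theorem ext_subsingleton_of_torExtends {F : Sheaf J AddCommGrpCat.{u}} (hF : TorExtends F) :
    ∀ (n : ℕ) (A : Sheaf J AddCommGrpCat.{u}), TorFree A → Subsingleton (Ext A F (n + 1)) := by
  intro n
  induction n with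
  | zero =>
    refine fun A hA => subsingleton_of_forall_eq 0 fun ξ => ?_
    obtain ⟨E, e, he, h⟩ := exists_epi_comp_eq_zero 0 F A ξ
    obtain ⟨P, p, hP, hp⟩ := exists_torFree_epi E
    have hS : (ShortComplex.mk (kernel.ι (p ≫ e)) (p ≫ e) (kernel.condition _)).ShortExact :=
      { exact := ShortComplex.exact_of_f_is_kernel _ (kernelIsKernel (p ≫ e))
        mono_f := inferInstance
        epi_g := epi_comp _ _ }
    have h' : (Ext.mk₀ (p ≫ e)).comp ξ (zero_add 1) = 0 := by
      rw [← Ext.mk₀_comp_mk₀, Ext.comp_assoc _ _ _ (zero_add 0) (zero_add 1) (by omega), h,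
        Ext.comp_zero]
    obtain ⟨ζ, rfl⟩ := Ext.contravariant_sequence_exact₃ hS F ξ h' (n₀ := 0) rfl
    obtain ⟨φ, rfl⟩ := Ext.addEquiv₀.symm.surjective ζ
    obtain ⟨ψ, rfl⟩ := hF _ hS (hP.of_mono (kernel.ι (p ≫ e))) hP hA φ
    change hS.extClass.comp (Ext.mk₀ (kernel.ι (p ≫ e) ≫ ψ)) _ = 0
    rw [← Ext.mk₀_comp_mk₀, ← Ext.comp_assoc _ _ _ (add_zero 1) (zero_add 0) (by omega),
      hS.extClass_comp, Ext.zero_comp]
  | succ n ih =>
    refine fun A hA => subsingleton_of_forall_eq 0 fun ξ => ?_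
    obtain ⟨E, e, he, h⟩ := exists_epi_comp_eq_zero (n + 1) F A ξ
    obtain ⟨P, p, hP, hp⟩ := exists_torFree_epi E
    have hS : (ShortComplex.mk (kernel.ι (p ≫ e)) (p ≫ e) (kernel.condition _)).ShortExact :=
      { exact := ShortComplex.exact_of_f_is_kernel _ (kernelIsKernel (p ≫ e))
        mono_f := inferInstance
        epi_g := epi_comp _ _ }
    have h' : (Ext.mk₀ (p ≫ e)).comp ξ (zero_add (n + 1 + 1)) = 0 := by
      rw [← Ext.mk₀_comp_mk₀,
        Ext.comp_assoc _ _ _ (zero_add 0) (zero_add (n + 1 + 1)) (by omega), h, Ext.comp_zero]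
    obtain ⟨ζ, rfl⟩ := Ext.contravariant_sequence_exact₃ hS F ξ h' (n₀ := n + 1) (by omega)
    have := ih _ (hP.of_mono (kernel.ι (p ≫ e)))
    rw [Subsingleton.elim ζ 0, Ext.comp_zero]

/-- The criterion for total acyclicity. -/
theorem isTotallyAcyclic_of_torExtends {F : Sheaf J AddCommGrpCat.{u}} (hF : TorExtends F) :
    CohCx.IsTotallyAcyclic F :=
  fun K p => ext_subsingleton_of_torExtends hF p _ (torFree_sheafify_free J K.obj)

/-- The extension property passes to direct images along functors with exact inverse image. -/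
theorem torExtends_push {D : Type u} [SmallCategory D] {K : GrothendieckTopology D} (u : D ⥤ C)
    [u.IsContinuous K J] [PreservesFiniteLimits (u.sheafPullback AddCommGrpCat.{u} K J)]
    {F : Sheaf J AddCommGrpCat.{u}} (hF : TorExtends F) :
    TorExtends ((CohSite.push J K u).obj F) := by
  intro S hS h1 h2 h3 φ
  let adj := u.sheafAdjunctionContinuous AddCommGrpCat.{u} K J
  have : (u.sheafPullback AddCommGrpCat.{u} K J).IsLeftAdjoint := adj.isLeftAdjoint
  have : (u.sheafPullback AddCommGrpCat.{u} K J).Additive :=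
    Functor.additive_of_preserves_binary_products _
  have hS' := hS.map_of_exact (u.sheafPullback AddCommGrpCat.{u} K J)
  obtain ⟨ψ, hψ⟩ := hF _ hS' (h1.map _) (h2.map _) (h3.map _) ((adj.homEquiv _ _).symm φ)
  refine ⟨adj.homEquiv _ _ ψ, ?_⟩
  rw [← adj.homEquiv_naturality_left]
  exact (congrArg (adj.homEquiv _ _) hψ).trans (Equiv.apply_symm_apply _ _)

/-- A totally acyclic sheaf has no higher cohomology on objects. -/
theorem hu_subsingleton_of_isTotallyAcyclic {F : Sheaf J AddCommGrpCat.{u}}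
    (hF : CohCx.IsTotallyAcyclic F) (U : C) (p : ℕ) : Subsingleton (CohSite.HU F (p + 1) U) := by
  have h : Subsingleton (Ext ((freeAb J).obj (reprSh J U)) F (p + 1)) := hF _ p
  suffices h' : Subsingleton (Ext (CohCx.freeSheaf J U) F (p + 1)) from h'
  refine subsingleton_of_forall_eq 0 fun ξ => ?_
  have e : (Ext.mk₀ (freeAbReprIso J U).hom).comp ξ (zero_add (p + 1)) = 0 := Subsingleton.elim _ _
  rw [← Ext.mk₀_id_comp ξ, ← (freeAbReprIso J U).inv_hom_id, ← Ext.mk₀_comp_mk₀,
    Ext.comp_assoc _ _ _ (zero_add 0) (zero_add (p + 1)) (by omega), e, Ext.comp_zero]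

end Groth.Agent.SiteCoh
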