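import Mathlib.CategoryTheory.Abelian.Injective.Ext
import Mathlib.CategoryTheory.Abelian.RightDerived
import Mathlib.CategoryTheory.Abelian.FunctorCategory
import Mathlib.Algebra.Category.Grp.Abelian
import Mathlib.Algebra.Homology.ShortComplex.Ab
import Mathlib.CategoryTheory.Preadditive.Yoneda.Basic
import Mathlib.CategoryTheory.Limits.FunctorCategory.EpiMono

/-!
`Ext` out of a family of objects as right derived functors, and right derived functors of a
functor followed by an exact functor.
-/

universe v v' u u'

open CategoryTheory CategoryTheory.Limits Opposite CategoryTheory.Abelian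

namespace Groth.Agent.SiteCoh

variable {A : Type u'} [Category.{v} A] [Abelian A] {K : Type v} [SmallCategory K] (Z : K ⥤ A)

/-- `Y ↦ (U ↦ Hom(Z U, Y))`. -/
noncomputable abbrev homPre : A ⥤ Kᵒᵖ ⥤ AddCommGrpCat.{v} := (Z.op ⋙ preadditiveCoyoneda).flip

/-- `Y ↦ (U ↦ Ext^n(Z U, Y))`. -/
noncomputable abbrev extPre [HasExt.{v} A] (n : ℕ) : A ⥤ Kᵒᵖ ⥤ AddCommGrpCat.{v} :=
  (Z.op ⋙ extFunctor n).flip

instance homPre_additive : (homPre Z).Additive where
  map_add := by
    intros
    ext U x
    exact Preadditive.comp_add _ _ _ _ _ _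

section

variable [HasExt.{v} A] [EnoughInjectives A] {Y : A} (R : InjectiveResolution Y) (n : ℕ)

/-- The complex `Hom(Z -, R^•)`. -/
noncomputable abbrev homCx : CochainComplex (Kᵒᵖ ⥤ AddCommGrpCat.{v}) ℕ :=
  ((homPre Z).mapHomologicalComplex _).obj R.cocomplex

/-- The morphism underlying a cocycle. -/
noncomputable abbrev cocycleHom (U : Kᵒᵖ) (z : ((homCx Z R).cycles n).obj U) :
    Z.obj U.unop ⟶ R.cocomplex.X n :=
  ((homCx Z R).iCycles n).app U z

lemma cocycleHom_d (U : Kᵒᵖ) (z : ((homCx Z R).cycles n).obj U) :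
    cocycleHom Z R n U z ≫ R.cocomplex.d n (n + 1) = 0 :=
  ConcreteCategory.congr_hom (NatTrans.congr_app ((homCx Z R).iCycles_d n (n + 1)) U) z

omit [HasExt.{v} A] [EnoughInjectives A] in
lemma iCycles_app_injective (U : Kᵒᵖ) :
    Function.Injective (((homCx Z R).iCycles n).app U) :=
  (AddCommGrpCat.mono_iff_injective _).1 ((NatTrans.mono_iff_mono_app _).1 inferInstance U)

lemma extMk_congr {X : A} {f g : X ⟶ R.cocomplex.X n} (h : f = g) {m : ℕ} {hm : n + 1 = m}
    {hf : f ≫ R.cocomplex.d n m = 0} {hg : g ≫ R.cocomplex.d n m = 0} :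
    R.extMk f m hm hf = R.extMk g m hm hg := by
  subst h; rfl

/-- Sending a cocycle to its class, as a map to `Ext^n`. -/
noncomputable def cyclesToExt : (homCx Z R).cycles n ⟶ (extPre Z n).obj Y where
  app U := AddCommGrpCat.ofHom <| AddMonoidHom.mk'
    (fun z => R.extMk (cocycleHom Z R n U z) (n + 1) rfl (cocycleHom_d Z R n U z))
    (fun z w => by
      rw [R.add_extMk _ _ _ rfl (cocycleHom_d Z R n U z) (cocycleHom_d Z R n U w)]
      exact extMk_congr R n (map_add _ z w))
  naturality U V g := by
    ext z
    change R.extMk (cocycleHom Z R n V (((homCx Z R).cycles n).map g z)) (n + 1) rfl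
      (cocycleHom_d Z R n V _) =
      (Ext.mk₀ (Z.map g.unop)).comp
        (R.extMk (cocycleHom Z R n U z) (n + 1) rfl (cocycleHom_d Z R n U z)) (zero_add n)
    rw [R.mk₀_comp_extMk]
    exact extMk_congr R n
      (ConcreteCategory.congr_hom (((homCx Z R).iCycles n).naturality g) z)

lemma cyclesToExt_apply (U : Kᵒᵖ) (z : ((homCx Z R).cycles n).obj U) :
    (cyclesToExt Z R n).app U z =
      R.extMk (cocycleHom Z R n U z) (n + 1) rfl (cocycleHom_d Z R n U z) :=
  rfl

lemma extMk_eq_zero_degree_zero {X : A} (f : X ⟶ R.cocomplex.X 0) (m : ℕ) (hm : 0 + 1 = m)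
    (hf : f ≫ R.cocomplex.d 0 m = 0) (h : R.extMk f m hm hf = 0) : f = 0 := by
  rw [← R.extEquivCohomologyClass.apply_eq_iff_eq,
    InjectiveResolution.extEquivCohomologyClass_extMk,
    InjectiveResolution.extEquivCohomologyClass_zero,
    CochainComplex.HomComplex.CohomologyClass.mk_eq_zero_iff,
    CochainComplex.HomComplex.Cocycle.fromSingleMk_mem_coboundaries_iff _ _ _ _ _ (-1) (by lia)] at h
  obtain ⟨g, hg⟩ := h
  rw [(R.cochainComplex.isZero_of_isStrictlyGE 0 (-1) (by omega)).eq_of_tgt g 0, zero_comp] at hg
  rw [← cancel_mono (R.cochainComplexXIso ((0 : ℕ) : ℤ) 0 rfl).inv, zero_comp]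
  exact hg.symm

lemma exists_cycle (U : Kᵒᵖ) (f : Z.obj U.unop ⟶ R.cocomplex.X n)
    (hf : f ≫ R.cocomplex.d n (n + 1) = 0) :
    ∃ z : ((homCx Z R).cycles n).obj U, cocycleHom Z R n U z = f := by
  have h : (ShortComplex.mk _ _ ((homCx Z R).iCycles_d n (n + 1))).Exact :=
    ShortComplex.exact_of_f_is_kernel _ ((homCx Z R).cyclesIsKernel n (n + 1) (by simp))
  exact (ShortComplex.ab_exact_iff _).1 (h.map ((evaluation Kᵒᵖ AddCommGrpCat.{v}).obj U)) f hf

lemma toCycles_cyclesToExt (i : ℕ) : (homCx Z R).toCycles i n ≫ cyclesToExt Z R n = 0 := by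
  ext U g
  change (cyclesToExt Z R n).app U (((homCx Z R).toCycles i n).app U g) = 0
  rw [cyclesToExt_apply]
  by_cases hi : i + 1 = n
  · refine (R.extMk_eq_zero_iff _ _ rfl _ i hi).2 ?_
    exact ⟨g, (ConcreteCategory.congr_hom
      (NatTrans.congr_app ((homCx Z R).toCycles_i i n) U) g).symm⟩
  · have h0 : (homCx Z R).toCycles i n = 0 := by
      rw [← cancel_mono ((homCx Z R).iCycles n), HomologicalComplex.toCycles_i, zero_comp]
      exact (homCx Z R).shape _ _ hi
    rw [extMk_congr R n (show cocycleHom Z R n U _ = 0 by rw [h0]; exact map_zero _)]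
    exact R.extMk_zero _ rfl

/-- Cohomology of `Hom(Z -, R^•)` to `Ext`. -/
noncomputable def homologyToExt : (homCx Z R).homology n ⟶ (extPre Z n).obj Y :=
  ((homCx Z R).homologyIsCokernel ((ComplexShape.up ℕ).prev n) n rfl).desc
    (CokernelCofork.ofπ _ (toCycles_cyclesToExt Z R n _))

@[reassoc (attr := simp)]
lemma homologyπ_homologyToExt :
    (homCx Z R).homologyπ n ≫ homologyToExt Z R n = cyclesToExt Z R n :=
  Cofork.IsColimit.π_desc ((homCx Z R).homologyIsCokernel ((ComplexShape.up ℕ).prev n) n rfl)

instance homologyToExt_isIso : IsIso (homologyToExt Z R n) := by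
  rw [NatTrans.isIso_iff_isIso_app]
  intro U
  rw [ConcreteCategory.isIso_iff_bijective]
  have key : ∀ x, ∃ z, ((homCx Z R).homologyπ n).app U z = x :=
    (AddCommGrpCat.epi_iff_surjective _).1 inferInstance
  have happ : ∀ z, (homologyToExt Z R n).app U (((homCx Z R).homologyπ n).app U z) =
      R.extMk (cocycleHom Z R n U z) (n + 1) rfl (cocycleHom_d Z R n U z) := fun z => by
    rw [← cyclesToExt_apply, ← homologyπ_homologyToExt]
    rfl
  constructor
  · refine (injective_iff_map_eq_zero _).2 fun x hx => ?_
    obtain ⟨z, rfl⟩ := key x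
    rw [happ] at hx
    obtain _ | p := n
    · have hz : z = 0 := iCycles_app_injective Z R 0 U
        ((extMk_eq_zero_degree_zero R _ _ rfl _ hx).trans (map_zero _).symm)
      rw [hz, map_zero]
    · obtain ⟨g, hg⟩ := (R.extMk_eq_zero_iff _ _ rfl _ p rfl).1 hx
      have hz : ((homCx Z R).toCycles p (p + 1)).app U g = z :=
        iCycles_app_injective Z R (p + 1) U
          ((ConcreteCategory.congr_hom
            (NatTrans.congr_app ((homCx Z R).toCycles_i p (p + 1)) U) g).trans hg)
      rw [← hz]
      exact ConcreteCategory.congr_hom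
        (NatTrans.congr_app ((homCx Z R).toCycles_comp_homologyπ p (p + 1)) U) g
  · intro x
    obtain ⟨f, hf, rfl⟩ := R.extMk_surjective x (n + 1) rfl
    obtain ⟨z, hz⟩ := exists_cycle Z R n U f hf
    exact ⟨((homCx Z R).homologyπ n).app U z, (happ z).trans (extMk_congr R n hz)⟩

end

variable [HasExt.{v} A] [EnoughInjectives A]

lemma homologyToExt_naturality {X Y : A} (f : X ⟶ Y) {P : InjectiveResolution X}
    {Q : InjectiveResolution Y} (φ : InjectiveResolution.Hom P Q f) (n : ℕ) :
    HomologicalComplex.homologyMap (((homPre Z).mapHomologicalComplex _).map φ.hom) n ≫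
      homologyToExt Z Q n = homologyToExt Z P n ≫ (extPre Z n).map f := by
  rw [← cancel_epi ((homCx Z P).homologyπ n), HomologicalComplex.homologyπ_naturality_assoc,
    homologyπ_homologyToExt, homologyπ_homologyToExt_assoc]
  ext U z
  change Q.extMk (cocycleHom Z Q n U ((HomologicalComplex.cyclesMap
      (((homPre Z).mapHomologicalComplex _).map φ.hom) n).app U z)) (n + 1) rfl
      (cocycleHom_d Z Q n U _) =
    (P.extMk (cocycleHom Z P n U z) (n + 1) rfl (cocycleHom_d Z P n U z)).comp (Ext.mk₀ f) (add_zero n)
  rw [InjectiveResolution.extMk_comp_mk₀ _ _ rfl _ φ]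
  exact extMk_congr Q n (ConcreteCategory.congr_hom
    (NatTrans.congr_app (HomologicalComplex.cyclesMap_i
      (((homPre Z).mapHomologicalComplex _).map φ.hom) n) U) z)

/-- `Ext^n(Z -, ·)` is the `n`-th right derived functor of `Hom(Z -, ·)`. -/
noncomputable def rightDerivedHomPreIso (n : ℕ) : (homPre Z).rightDerived n ≅ extPre Z n :=
  NatIso.ofComponents
    (fun Y => (injectiveResolution Y).isoRightDerivedObj (homPre Z) n ≪≫
      @asIso _ _ _ _ (homologyToExt Z (injectiveResolution Y) n) (homologyToExt_isIso Z _ n))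
    (fun {X Y} f => by
      let φ : InjectiveResolution.Hom (injectiveResolution X) (injectiveResolution Y) f :=
        { hom := InjectiveResolution.desc f _ _
          ι_f_zero_comp_hom_f_zero := by
            exact HomologicalComplex.congr_hom
              (InjectiveResolution.desc_commutes f (injectiveResolution Y) (injectiveResolution X)) 0 }
      simp only [Iso.trans_hom, asIso_hom]
      rw [InjectiveResolution.isoRightDerivedObj_hom_naturality_assoc f (injectiveResolution X)
        (injectiveResolution Y) φ.hom (φ.ι_f_zero_comp_hom_f_zero.trans (by simp)), Category.assoc]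
      congr 1
      exact homologyToExt_naturality Z f φ n)

section PostExact

variable {B : Type*} [Category B] [Abelian B] {B' : Type*} [Category B'] [Abelian B']
  (F : A ⥤ B) [F.Additive] (G : B ⥤ B') [G.Additive] [G.PreservesHomology]

/-- Right derived functors commute with a following exact functor. -/
noncomputable def rightDerivedCompExactIso (n : ℕ) :
    (F ⋙ G).rightDerived n ≅ F.rightDerived n ⋙ G :=
  NatIso.ofComponents
    (fun X => (injectiveResolution X).isoRightDerivedObj (F ⋙ G) n ≪≫
      ((((F.mapHomologicalComplex _).obj (injectiveResolution X).cocomplex)).sc n).mapHomologyIso G ≪≫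
      G.mapIso ((injectiveResolution X).isoRightDerivedObj F n).symm)
    (fun {X Y} f => by
      have comm : (injectiveResolution X).ι.f 0 ≫
          (InjectiveResolution.desc f (injectiveResolution Y) (injectiveResolution X)).f 0 =
            f ≫ (injectiveResolution Y).ι.f 0 :=
        (HomologicalComplex.congr_hom (InjectiveResolution.desc_commutes f
          (injectiveResolution Y) (injectiveResolution X)) 0).trans (by simp)
      rw [Iso.trans_hom, Iso.trans_hom, Iso.trans_hom, Iso.trans_hom,
        InjectiveResolution.isoRightDerivedObj_hom_naturality_assoc f (injectiveResolution X)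
          (injectiveResolution Y) (InjectiveResolution.desc f _ _) comm, Category.assoc]
      refine whisker_eq ((injectiveResolution X).isoRightDerivedObj (F ⋙ G) n).hom ?_
      have h := ShortComplex.mapHomologyIso_hom_naturality
        ((HomologicalComplex.shortComplexFunctor B (ComplexShape.up ℕ) n).map
          ((F.mapHomologicalComplex _).map
            (InjectiveResolution.desc f (injectiveResolution Y) (injectiveResolution X)))) G
      refine (reassoc_of% h) _ |>.trans (Eq.trans ?_ (Category.assoc _ _ _).symm)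
      refine congrArg (fun x => CategoryStruct.comp
        ((((F.mapHomologicalComplex _).obj (injectiveResolution X).cocomplex).sc n).mapHomologyIso G).hom x) ?_
      refine ((G.map_comp _ _).symm.trans ?_).trans (G.map_comp _ _)
      exact congrArg G.map (InjectiveResolution.isoRightDerivedObj_inv_naturality f _ _ _ comm F n).symm)

end PostExact

end Groth.Agent.SiteCoh
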