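import Groth.Prelude.Def_CohCx
import Mathlib.CategoryTheory.Sites.EpiMono
import Mathlib.Algebra.Homology.DerivedCategory.Ext.ExactSequences
import Mathlib.CategoryTheory.Abelian.GrothendieckCategory.EnoughInjectives

/-!
Free abelian sheaves on representables, sections as morphisms out of them, and the basic
calculus of `CohSite.HU` (degree zero, injectives, dimension shift, locally killed classes).
-/

universe u

open CategoryTheory CategoryTheory.Limits Opposite CategoryTheory.Abelian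

namespace Groth.Agent.SiteCoh

variable {C : Type u} [SmallCategory C] {J : GrothendieckTopology C}

/-- The tautological section of the free abelian sheaf on `U` over `U`. -/
noncomputable def freeSec (J : GrothendieckTopology C) (U : C) :
    (CohCx.freeSheaf J U).obj.obj (op U) :=
  (toSheafify J (yoneda.obj U ⋙ AddCommGrpCat.free.{u})).app (op U) (FreeAbelianGroup.of (𝟙 U))

/-- Morphisms out of the free abelian sheaf on `U` are sections over `U`. -/
noncomputable def homEquivSec (U : C) (F : Sheaf J AddCommGrpCat.{u}) :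
    (CohCx.freeSheaf J U ⟶ F) ≃ F.obj.obj (op U) :=
  ((sheafificationAdjunction J AddCommGrpCat.{u}).homEquiv _ F).trans
    (((AddCommGrpCat.adj.whiskerRight Cᵒᵖ).homEquiv (yoneda.obj U) F.obj).trans yonedaEquiv)

lemma homEquivSec_apply (U : C) (F : Sheaf J AddCommGrpCat.{u}) (φ : CohCx.freeSheaf J U ⟶ F) :
    homEquivSec U F φ = φ.hom.app (op U) (freeSec J U) :=
  rfl

/-- Morphisms out of the free abelian sheaf on `U` are sections over `U`, additively. -/
noncomputable def homAddEquivSec (U : C) (F : Sheaf J AddCommGrpCat.{u}) :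
    (CohCx.freeSheaf J U ⟶ F) ≃+ F.obj.obj (op U) where
  toEquiv := homEquivSec U F
  map_add' φ ψ := by
    simp only [Equiv.toFun_as_coe, homEquivSec_apply]
    rfl

lemma homAddEquivSec_apply (U : C) (F : Sheaf J AddCommGrpCat.{u}) (φ : CohCx.freeSheaf J U ⟶ F) :
    homAddEquivSec U F φ = φ.hom.app (op U) (freeSec J U) :=
  rfl

lemma homAddEquivSec_comp {U : C} {F G : Sheaf J AddCommGrpCat.{u}} (φ : CohCx.freeSheaf J U ⟶ F)
    (g : F ⟶ G) : homAddEquivSec U G (φ ≫ g) = g.hom.app (op U) (homAddEquivSec U F φ) :=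
  rfl

lemma homAddEquivSec_symm_comp {U : C} {F G : Sheaf J AddCommGrpCat.{u}} (s : F.obj.obj (op U))
    (g : F ⟶ G) :
    (homAddEquivSec U F).symm s ≫ g = (homAddEquivSec U G).symm (g.hom.app (op U) s) := by
  apply (homAddEquivSec U G).injective
  simp [homAddEquivSec_comp]

lemma freeSheafMap_freeSec {U V : C} (f : V ⟶ U) :
    (CohCx.freeSheafMap J f).hom.app (op V) (freeSec J V) =
      (CohCx.freeSheaf J U).obj.map f.op (freeSec J U) := by
  have h1 := ConcreteCategory.congr_hom
    (NatTrans.congr_app (toSheafify_naturality J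
      (Functor.whiskerRight (yoneda.map f) AddCommGrpCat.free.{u})) (op V))
    (FreeAbelianGroup.of (𝟙 V))
  have h2 := ConcreteCategory.congr_hom
    ((toSheafify J (yoneda.obj U ⋙ AddCommGrpCat.free.{u})).naturality f.op)
    (FreeAbelianGroup.of (𝟙 U))
  have h3 : (Functor.whiskerRight (yoneda.map f) AddCommGrpCat.free.{u}).app (op V)
      (FreeAbelianGroup.of (𝟙 V)) =
      (yoneda.obj U ⋙ AddCommGrpCat.free.{u}).map f.op (FreeAbelianGroup.of (𝟙 U)) := by
    show FreeAbelianGroup.map _ (FreeAbelianGroup.of _) =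
      FreeAbelianGroup.map _ (FreeAbelianGroup.of _)
    simp
  refine (h1.symm).trans ?_
  refine Eq.trans ?_ h2
  exact congrArg ((toSheafify J (yoneda.obj U ⋙ AddCommGrpCat.free.{u})).app (op V)) h3

lemma homAddEquivSec_freeSheafMap_comp {U V : C} (f : V ⟶ U) {F : Sheaf J AddCommGrpCat.{u}}
    (φ : CohCx.freeSheaf J U ⟶ F) :
    homAddEquivSec V F (CohCx.freeSheafMap J f ≫ φ) = F.obj.map f.op (homAddEquivSec U F φ) := by
  show φ.hom.app (op V) ((CohCx.freeSheafMap J f).hom.app (op V) (freeSec J V)) = _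
  rw [freeSheafMap_freeSec]
  exact ConcreteCategory.congr_hom (φ.hom.naturality f.op) (freeSec J U)

lemma freeSheafMap_comp_symm {U V : C} (f : V ⟶ U) {F : Sheaf J AddCommGrpCat.{u}}
    (s : F.obj.obj (op U)) :
    CohCx.freeSheafMap J f ≫ (homAddEquivSec U F).symm s =
      (homAddEquivSec V F).symm (F.obj.map f.op s) := by
  apply (homAddEquivSec V F).injective
  simp [homAddEquivSec_freeSheafMap_comp]

lemma freeSheafMap_id (U : C) : CohCx.freeSheafMap J (𝟙 U) = 𝟙 _ := by
  simp [CohCx.freeSheafMap]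

lemma freeSheafMap_comp {U V W : C} (f : V ⟶ U) (g : W ⟶ V) :
    CohCx.freeSheafMap J (g ≫ f) = CohCx.freeSheafMap J g ≫ CohCx.freeSheafMap J f := by
  simp [CohCx.freeSheafMap]

/-- The free abelian sheaves on representables separate morphisms. -/
lemma hom_ext_of_freeSheaf {F G : Sheaf J AddCommGrpCat.{u}} {φ ψ : F ⟶ G}
    (h : ∀ (U : C) (s : CohCx.freeSheaf J U ⟶ F), s ≫ φ = s ≫ ψ) : φ = ψ := by
  ext U s
  have := congrArg (homAddEquivSec U.unop G) (h U.unop ((homAddEquivSec U.unop F).symm s))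
  rw [homAddEquivSec_symm_comp, homAddEquivSec_symm_comp] at this
  simpa using this

/-! ### Cohomology -/

lemma res_apply (F : Sheaf J AddCommGrpCat.{u}) (n : ℕ) {U V : C} (f : V ⟶ U)
    (ξ : Ext (CohCx.freeSheaf J U) F n) :
    CohSite.res F n f ξ = (Ext.mk₀ (CohCx.freeSheafMap J f)).comp ξ (zero_add n) :=
  rfl

lemma res_eq_zero_iff (F : Sheaf J AddCommGrpCat.{u}) (n : ℕ) {U V : C} (f : V ⟶ U)
    (ξ : CohSite.HU F n U) :
    CohSite.res F n f ξ = 0 ↔
      (Ext.mk₀ (CohCx.freeSheafMap J f)).comp (show Ext (CohCx.freeSheaf J U) F n from ξ)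
        (zero_add n) = 0 :=
  Iff.rfl

/-- `H^0(U, F)` is the group of sections over `U`. -/
noncomputable def hu0Equiv (F : Sheaf J AddCommGrpCat.{u}) (U : C) :
    Ext (CohCx.freeSheaf J U) F 0 ≃+ F.obj.obj (op U) :=
  Ext.addEquiv₀.trans (homAddEquivSec U F)

/-- `H^0(U, F)` is the group of sections over `U`, on `CohSite.HU`. -/
noncomputable def huZeroEquiv (F : Sheaf J AddCommGrpCat.{u}) (U : C) :
    CohSite.HU F 0 U ≃+ F.obj.obj (op U) :=
  hu0Equiv F U

lemma hu0Equiv_symm_apply (F : Sheaf J AddCommGrpCat.{u}) (U : C) (s : F.obj.obj (op U)) :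
    (hu0Equiv F U).symm s = Ext.mk₀ ((homAddEquivSec U F).symm s) :=
  rfl

lemma mk₀_comp_hu0Equiv_symm (F : Sheaf J AddCommGrpCat.{u}) {U V : C} (f : V ⟶ U)
    (s : F.obj.obj (op U)) :
    (Ext.mk₀ (CohCx.freeSheafMap J f)).comp ((hu0Equiv F U).symm s) (zero_add 0) =
      (hu0Equiv F V).symm (F.obj.map f.op s) := by
  rw [hu0Equiv_symm_apply, hu0Equiv_symm_apply, ← freeSheafMap_comp_symm]
  exact Ext.mk₀_comp_mk₀ _ _

lemma huZeroEquiv_res (F : Sheaf J AddCommGrpCat.{u}) {U V : C} (f : V ⟶ U)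
    (x : CohSite.HU F 0 U) :
    huZeroEquiv F V (CohSite.res F 0 f x) = F.obj.map f.op (huZeroEquiv F U x) := by
  obtain ⟨s, rfl⟩ := (hu0Equiv F U).symm.surjective x
  refine (congrArg (hu0Equiv F V) (mk₀_comp_hu0Equiv_symm F f s)).trans ?_
  refine (AddEquiv.apply_symm_apply _ _).trans ?_
  exact congrArg (F.obj.map f.op) ((hu0Equiv F U).apply_symm_apply s).symm

lemma hu0Equiv_symm_comp_mk₀ {F G : Sheaf J AddCommGrpCat.{u}} (g : F ⟶ G) (U : C)
    (s : F.obj.obj (op U)) :
    ((hu0Equiv F U).symm s).comp (Ext.mk₀ g) (add_zero 0) =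
      (hu0Equiv G U).symm (g.hom.app (op U) s) := by
  rw [hu0Equiv_symm_apply, hu0Equiv_symm_apply, ← homAddEquivSec_symm_comp]
  exact Ext.mk₀_comp_mk₀ _ _

instance hu_subsingleton_of_injective (F : Sheaf J AddCommGrpCat.{u}) [Injective F] (n : ℕ) (U : C) :
    Subsingleton (CohSite.HU F (n + 1) U) :=
  Ext.subsingleton_of_injective (CohCx.freeSheaf J U) F n

/-- A chosen embedding into an injective, as a short complex. -/
noncomputable abbrev injSES (F : Sheaf J AddCommGrpCat.{u}) :
    ShortComplex (Sheaf J AddCommGrpCat.{u}) :=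
  ShortComplex.mk (Injective.ι F) (cokernel.π (Injective.ι F)) (cokernel.condition _)

lemma injSES_shortExact (F : Sheaf J AddCommGrpCat.{u}) : (injSES F).ShortExact :=
  { exact := ShortComplex.exact_of_g_is_cokernel _ (cokernelIsCokernel (Injective.ι F))
    mono_f := inferInstance
    epi_g := inferInstance }

/-- Every positive degree class is a connecting image, as soon as the middle term is acyclic. -/
lemma exists_comp_extClass {A : Type*} [Category A] [Abelian A] [HasExt.{u} A]
    {S : ShortComplex A} (hS : S.ShortExact) (X : A) (n : ℕ)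
    [h : Subsingleton (Ext.{u} X S.X₂ (n + 1))] (ξ : Ext.{u} X S.X₁ (n + 1)) :
    ∃ s : Ext.{u} X S.X₃ n, s.comp hS.extClass rfl = ξ :=
  Ext.covariant_sequence_exact₁ X hS ξ (Subsingleton.elim _ _) rfl

/-- An epimorphism of abelian sheaves lifts sections locally. -/
lemma exists_local_lift {F G : Sheaf J AddCommGrpCat.{u}} (g : F ⟶ G) [Epi g] {U : C}
    (s : G.obj.obj (op U)) :
    ∃ S : J.Cover U, ∀ a : S.Arrow, ∃ t : F.obj.obj (op a.Y),
      g.hom.app (op a.Y) t = G.obj.map a.f.op s := by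
  have : Sheaf.IsLocallySurjective g := (Sheaf.isLocallySurjective_iff_epi' AddCommGrpCat.{u} g).2 ‹_›
  exact ⟨⟨_, Presheaf.imageSieve_mem J g.hom s⟩, fun a => a.hf⟩

/-- A class of positive degree is killed on some covering, in terms of `Ext`. -/
theorem exists_cover_comp_eq_zero (n : ℕ) :
    ∀ (F : Sheaf J AddCommGrpCat.{u}) (U : C) (ξ : Ext (CohCx.freeSheaf J U) F (n + 1)),
      ∃ S : J.Cover U, ∀ a : S.Arrow,
        (Ext.mk₀ (CohCx.freeSheafMap J a.f)).comp ξ (zero_add (n + 1)) = 0 := by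
  induction n with
  | zero =>
    intro F U ξ
    have hS := injSES_shortExact F
    have : Subsingleton (Ext.{u} (CohCx.freeSheaf J U) (injSES F).X₂ (0 + 1)) :=
      Ext.subsingleton_of_injective _ (Injective.under F) 0
    obtain ⟨s, rfl⟩ := exists_comp_extClass hS (CohCx.freeSheaf J U) 0 ξ
    obtain ⟨t, rfl⟩ := (hu0Equiv (injSES F).X₃ U).symm.surjective s
    obtain ⟨S, hSl⟩ := exists_local_lift (injSES F).g t
    refine ⟨S, fun a => ?_⟩
    obtain ⟨w, hw⟩ := hSl a
    rw [← Ext.comp_assoc _ _ _ (zero_add 0) (zero_add 1) (by omega), mk₀_comp_hu0Equiv_symm, ← hw, ← hu0Equiv_symm_comp_mk₀, Ext.comp_assoc _ _ _ (add_zero 0) (zero_add 1) (by omega),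
      hS.comp_extClass, Ext.comp_zero]
  | succ n ih =>
    intro F U ξ
    have hS := injSES_shortExact F
    have : Subsingleton (Ext.{u} (CohCx.freeSheaf J U) (injSES F).X₂ (n + 1 + 1)) :=
      Ext.subsingleton_of_injective _ (Injective.under F) (n + 1)
    obtain ⟨s, rfl⟩ := exists_comp_extClass hS (CohCx.freeSheaf J U) (n + 1) ξ
    obtain ⟨S, hSl⟩ := ih _ _ s
    refine ⟨S, fun a => ?_⟩
    have h := hSl a
    rw [← Ext.comp_assoc _ _ _ (zero_add (n + 1)) rfl (by omega), h, Ext.zero_comp]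

/-- A class of positive degree is killed on some covering. -/
theorem exists_cover_res_eq_zero (n : ℕ) (F : Sheaf J AddCommGrpCat.{u}) (U : C)
    (ξ : CohSite.HU F (n + 1) U) :
    ∃ S : J.Cover U, ∀ a : S.Arrow, CohSite.res F (n + 1) a.f ξ = 0 :=
  exists_cover_comp_eq_zero n F U ξ

end Groth.Agent.SiteCoh
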