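import Mathlib.Algebra.Homology.DerivedCategory.Ext.Basic

/-!
Transport of `Ext` along an isomorphism in the first variable.
-/

universe u

open CategoryTheory CategoryTheory.Abelian

namespace Groth.Agent.SiteCoh

variable {A : Type*} [Category A] [Abelian A] [HasExt.{u} A]

/-- Precomposition with an isomorphism on `Ext`. -/
noncomputable def extIsoEquiv {X Y : A} (a : X ≅ Y) (F : A) (n : ℕ) :
    Ext.{u} X F n ≃+ Ext.{u} Y F n where
  toFun ξ := (Ext.mk₀ a.inv).comp ξ (zero_add n)
  invFun ξ := (Ext.mk₀ a.hom).comp ξ (zero_add n)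
  left_inv ξ := by simp
  right_inv ξ := by simp
  map_add' := by simp

lemma extIsoEquiv_apply {X Y : A} (a : X ≅ Y) (F : A) {n : ℕ} (ξ : Ext.{u} X F n) :
    extIsoEquiv a F n ξ = (Ext.mk₀ a.inv).comp ξ (zero_add n) :=
  rfl

end Groth.Agent.SiteCoh
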