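import Groth.Prelude.Def_CohSite
import Mathlib.CategoryTheory.Sites.Pullback
import Mathlib.CategoryTheory.Sites.Whiskering
import Mathlib.CategoryTheory.Limits.Shapes.BinaryProducts
import Mathlib.CategoryTheory.Limits.Preserves.Shapes.BinaryProducts
import Mathlib.Algebra.Homology.ShortComplex.ExactFunctor
import Mathlib.CategoryTheory.Adjunction.Unique

/-!
If the inverse image of sheaves of sets is left exact, so is the inverse image of abelian sheaves:
the underlying sheaf of sets of the latter is the inverse image of the underlying sheaf of sets.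
-/

universe u

open CategoryTheory CategoryTheory.Limits Opposite

namespace Groth.Agent.SiteCoh.TypeExact

section Pair

variable {E : Type*} [Category E] (G : E ⥤ Type u) (X Y : E) [HasBinaryProduct X Y]
  [PreservesLimit (Limits.pair X Y) G]

lemma pair_existsUnique (a : G.obj X) (b : G.obj Y) :
    ∃! w : G.obj (X ⨯ Y), G.map prod.fst w = a ∧ G.map prod.snd w = b := by
  have hl := mapIsLimitOfPreservesOfIsLimit G prod.fst prod.snd (prodIsProd X Y)
  obtain ⟨l, h1, h2⟩ :=
    BinaryFan.IsLimit.lift' hl (↾fun _ : PUnit.{u + 1} => a) (↾fun _ : PUnit.{u + 1} => b)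
  refine ⟨l PUnit.unit, ⟨ConcreteCategory.congr_hom h1 PUnit.unit,
    ConcreteCategory.congr_hom h2 PUnit.unit⟩, fun w hw => ?_⟩
  have h : (↾fun _ : PUnit.{u + 1} => w) = l := by
    refine BinaryFan.IsLimit.hom_ext hl (Eq.trans ?_ h1.symm) (Eq.trans ?_ h2.symm)
    · ext x; exact hw.1
    · ext x; exact hw.2
  exact ConcreteCategory.congr_hom h PUnit.unit

/-- The element with given projections. -/
noncomputable def mkPair (a : G.obj X) (b : G.obj Y) : G.obj (X ⨯ Y) :=
  (pair_existsUnique G X Y a b).exists.choose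

lemma mkPair_fst (a : G.obj X) (b : G.obj Y) : G.map prod.fst (mkPair G X Y a b) = a :=
  (pair_existsUnique G X Y a b).exists.choose_spec.1

lemma mkPair_snd (a : G.obj X) (b : G.obj Y) : G.map prod.snd (mkPair G X Y a b) = b :=
  (pair_existsUnique G X Y a b).exists.choose_spec.2

lemma eq_mkPair {a : G.obj X} {b : G.obj Y} {w : G.obj (X ⨯ Y)} (h1 : G.map prod.fst w = a)
    (h2 : G.map prod.snd w = b) : w = mkPair G X Y a b :=
  (pair_existsUnique G X Y a b).unique ⟨h1, h2⟩ ⟨mkPair_fst G X Y a b, mkPair_snd G X Y a b⟩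

end Pair

section Set

variable {D : Type u} [SmallCategory D] (K : GrothendieckTopology D)

/-- The underlying sheaf of sets. -/
noncomputable abbrev uA (A : Sheaf K AddCommGrpCat.{u}) : Sheaf K (Type u) :=
  (sheafCompose K (forget AddCommGrpCat.{u})).obj A

variable {K}

lemma hom_ext_app {X Y : Sheaf K (Type u)} {f g : X ⟶ Y}
    (h : ∀ V (x : X.obj.obj V), f.hom.app V x = g.hom.app V x) : f = g := by
  ext V x
  exact h V x

lemma congr_app_apply {X Y : Sheaf K (Type u)} {f g : X ⟶ Y} (h : f = g) (V : Dᵒᵖ)
    (x : X.obj.obj V) : f.hom.app V x = g.hom.app V x := by subst h; rfl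

lemma congr_app_apply' {X Y : Sheaf K AddCommGrpCat.{u}} {f g : X ⟶ Y} (h : f = g) (V : Dᵒᵖ)
    (x : X.obj.obj V) : f.hom.app V x = g.hom.app V x := by subst h; rfl

variable {Y : Sheaf K (Type u)} {A : Sheaf K AddCommGrpCat.{u}}

/-- The value of a map into `|A|`, as an element of the group. -/
abbrev el (f : Y ⟶ uA K A) (V : Dᵒᵖ) (y : Y.obj.obj V) : A.obj.obj V := f.hom.app V y

lemma hom_ext_el {f g : Y ⟶ uA K A} (h : ∀ V y, el f V y = el g V y) : f = g := hom_ext_app h

/-- Pointwise sum. -/
noncomputable def addHom (f g : Y ⟶ uA K A) : Y ⟶ uA K A :=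
  ⟨{ app := fun V => ↾fun y => (el f V y + el g V y : A.obj.obj V)
     naturality := fun V W r => by
       ext y
       have h1 := ConcreteCategory.congr_hom (f.hom.naturality r) y
       have h2 := ConcreteCategory.congr_hom (g.hom.naturality r) y
       exact (congrArg₂ (fun a b : A.obj.obj W => a + b) h1 h2).trans
         (map_add (A.obj.map r).hom _ _).symm }⟩

lemma addHom_app (f g : Y ⟶ uA K A) (V : Dᵒᵖ) (y : Y.obj.obj V) :
    el (addHom f g) V y = el f V y + el g V y := rfl

variable (Y A) in
/-- The zero map. -/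
noncomputable def zeroHom : Y ⟶ uA K A :=
  ⟨{ app := fun V => ↾fun _ => (0 : A.obj.obj V)
     naturality := fun V W r => by
       ext y
       exact (map_zero (A.obj.map r).hom).symm }⟩

/-- Pointwise negation. -/
noncomputable def negHom (f : Y ⟶ uA K A) : Y ⟶ uA K A :=
  ⟨{ app := fun V => ↾fun y => (-el f V y : A.obj.obj V)
     naturality := fun V W r => by
       ext y
       have h1 := ConcreteCategory.congr_hom (f.hom.naturality r) y
       exact (congrArg (fun a : A.obj.obj W => -a) h1).trans (map_neg (A.obj.map r).hom _).symm }⟩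

lemma comp_addHom {Z : Sheaf K (Type u)} (q : Z ⟶ Y) (f g : Y ⟶ uA K A) :
    q ≫ addHom f g = addHom (q ≫ f) (q ≫ g) := rfl

lemma comp_zeroHom {Z : Sheaf K (Type u)} (q : Z ⟶ Y) : q ≫ zeroHom Y A = zeroHom Z A := rfl

lemma comp_negHom {Z : Sheaf K (Type u)} (q : Z ⟶ Y) (f : Y ⟶ uA K A) :
    q ≫ negHom f = negHom (q ≫ f) := rfl

lemma addHom_comp {B : Sheaf K AddCommGrpCat.{u}} (f g : Y ⟶ uA K A) (φ : A ⟶ B) :
    addHom f g ≫ (sheafCompose K (forget AddCommGrpCat.{u})).map φ =
      addHom (f ≫ (sheafCompose K (forget AddCommGrpCat.{u})).map φ)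
        (g ≫ (sheafCompose K (forget AddCommGrpCat.{u})).map φ) :=
  hom_ext_el fun V _ => map_add (φ.hom.app V).hom _ _

lemma addHom_assoc (f g h : Y ⟶ uA K A) : addHom (addHom f g) h = addHom f (addHom g h) :=
  hom_ext_el fun V _ => add_assoc (G := A.obj.obj V) _ _ _

lemma addHom_comm (f g : Y ⟶ uA K A) : addHom f g = addHom g f :=
  hom_ext_el fun V _ => add_comm (G := A.obj.obj V) _ _

lemma zero_addHom (f : Y ⟶ uA K A) : addHom (zeroHom Y A) f = f :=
  hom_ext_el fun V _ => zero_add (M := A.obj.obj V) _

lemma neg_addHom (f : Y ⟶ uA K A) : addHom (negHom f) f = zeroHom Y A :=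
  hom_ext_el fun V _ => neg_add_cancel (G := A.obj.obj V) _

/-- Evaluation of sheaves of sets at an object. -/
noncomputable abbrev evS (K : GrothendieckTopology D) (V : Dᵒᵖ) : Sheaf K (Type u) ⥤ Type u :=
  sheafToPresheaf K (Type u) ⋙ (evaluation Dᵒᵖ (Type u)).obj V

end Set

section Pull

variable {C D : Type u} [SmallCategory C] [SmallCategory D] (J : GrothendieckTopology C)
  (K : GrothendieckTopology D) (u : D ⥤ C) [u.IsContinuous K J]
  [hu : PreservesFiniteLimits (u.sheafPullback (Type u) K J)]

/-- Pullback followed by evaluation. -/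
noncomputable abbrev evF (U : Cᵒᵖ) : Sheaf K (Type u) ⥤ Type u :=
  u.sheafPullback (Type u) K J ⋙ evS J U

/-- The sections of the underlying sheaf of sets of the inverse image. -/
def Sec (A : Sheaf K AddCommGrpCat.{u}) (U : Cᵒᵖ) : Type u :=
  (evF J K u U).obj (uA K A)

variable {J K u} {U : Cᵒᵖ} {A : Sheaf K AddCommGrpCat.{u}}

/-- The action of a map into `|A|`. -/
noncomputable def app {Y : Sheaf K (Type u)} (f : Y ⟶ uA K A) (w : (evF J K u U).obj Y) :
    Sec J K u A U :=
  (evF J K u U).map f w

lemma app_comp {Y Z : Sheaf K (Type u)} (q : Z ⟶ Y) (f : Y ⟶ uA K A) (w : (evF J K u U).obj Z) :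
    app (q ≫ f) w = app f ((evF J K u U).map q w) := by
  unfold app
  exact (congrArg (fun e => e w) ((evF J K u U).map_comp q f))

noncomputable instance : Add (Sec J K u A U) where
  add x y := app (addHom prod.fst prod.snd) (mkPair (evF J K u U) (uA K A) (uA K A) x y)

lemma app_addHom {Y : Sheaf K (Type u)} (f g : Y ⟶ uA K A) (w : (evF J K u U).obj Y) :
    app (addHom f g) w = app f w + app g w := by
  change _ = app (addHom prod.fst prod.snd) (mkPair (evF J K u U) _ _ (app f w) (app g w))
  have h : addHom f g = prod.lift f g ≫ addHom prod.fst prod.snd := by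
    rw [comp_addHom, prod.lift_fst, prod.lift_snd]
  rw [h, app_comp]
  congr 1
  refine eq_mkPair (evF J K u U) _ _ ?_ ?_
  · rw [← ConcreteCategory.comp_apply, ← Functor.map_comp, prod.lift_fst]; rfl
  · rw [← ConcreteCategory.comp_apply, ← Functor.map_comp, prod.lift_snd]; rfl

lemma subsingleton_terminal : Subsingleton ((evF J K u U).obj (⊤_ Sheaf K (Type u))) := by
  have hl := isLimitOfHasTerminalOfPreservesLimit (evF J K u U)
  refine ⟨fun a b => ?_⟩
  exact ConcreteCategory.congr_hom
    (hl.hom_ext (↾fun _ : PUnit.{u + 1} => a) (↾fun _ : PUnit.{u + 1} => b)) PUnit.unit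

variable (J K u U) in
/-- The unique section of the inverse image of the terminal sheaf. -/
noncomputable def pt : (evF J K u U).obj (⊤_ Sheaf K (Type u)) :=
  (isLimitOfHasTerminalOfPreservesLimit (evF J K u U)).from PUnit.{u + 1} PUnit.unit

noncomputable instance : Zero (Sec J K u A U) where
  zero := app (zeroHom (⊤_ Sheaf K (Type u)) A) (pt J K u U)

lemma app_zeroHom {Y : Sheaf K (Type u)} (w : (evF J K u U).obj Y) :
    app (zeroHom Y A) w = 0 := by
  rw [← comp_zeroHom (terminal.from Y), app_comp]
  exact congrArg (app (zeroHom (⊤_ Sheaf K (Type u)) A)) (subsingleton_terminal.elim _ _)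

noncomputable instance : Neg (Sec J K u A U) where
  neg x := app (negHom (𝟙 (uA K A))) x

lemma app_id (x : Sec J K u A U) : app (𝟙 (uA K A)) x = x :=
  congrArg (fun e => e x) ((evF J K u U).map_id (uA K A))

noncomputable instance : AddCommGroup (Sec J K u A U) where
  add_assoc x y z := by
    let w := mkPair (evF J K u U) (uA K A ⨯ uA K A) (uA K A)
      (mkPair (evF J K u U) (uA K A) (uA K A) x y) z
    have h1 : app (prod.fst ≫ prod.fst) w = x := by
      rw [app_comp, mkPair_fst]; exact mkPair_fst _ _ _ _ _
    have h2 : app (prod.fst ≫ prod.snd) w = y := by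
      rw [app_comp, mkPair_fst]; exact mkPair_snd _ _ _ _ _
    have h3 : app prod.snd w = z := mkPair_snd _ _ _ _ _
    rw [← h1, ← h2, ← h3, ← app_addHom, ← app_addHom, ← app_addHom, ← app_addHom, addHom_assoc]
  zero_add x := by
    have h := app_addHom (zeroHom (uA K A) A) (𝟙 _) x
    rw [zero_addHom, app_zeroHom, app_id] at h
    exact h.symm
  add_zero x := by
    have h := app_addHom (𝟙 _) (zeroHom (uA K A) A) x
    rw [addHom_comm, zero_addHom, app_zeroHom, app_id] at h
    exact h.symm
  add_comm x y := by
    let w := mkPair (evF J K u U) (uA K A) (uA K A) x y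
    have h1 : app prod.fst w = x := mkPair_fst _ _ _ _ _
    have h2 : app prod.snd w = y := mkPair_snd _ _ _ _ _
    rw [← h1, ← h2, ← app_addHom, ← app_addHom, addHom_comm]
  neg_add_cancel x := by
    have h := app_addHom (negHom (𝟙 (uA K A))) (𝟙 _) x
    rw [neg_addHom, app_zeroHom, app_id] at h
    exact h.symm
  nsmul := nsmulRec
  zsmul := zsmulRec

/-- Restriction of sections. -/
noncomputable def res {V : Cᵒᵖ} (r : U ⟶ V) (x : Sec J K u A U) : Sec J K u A V :=
  ((u.sheafPullback (Type u) K J).obj (uA K A)).obj.map r x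

lemma map_res_add {V : Cᵒᵖ} (r : U ⟶ V) (x y : Sec J K u A U) :
    res r (x + y) = res r x + res r y := by
  let P : Sheaf K (Type u) := uA K A ⨯ uA K A
  let w := mkPair (evF J K u U) (uA K A) (uA K A) x y
  let w' : (evF J K u V).obj P := ((u.sheafPullback (Type u) K J).obj P).obj.map r w
  have hn (f : P ⟶ uA K A) : app f w' = res r (app f w) :=
    ConcreteCategory.congr_hom (((u.sheafPullback (Type u) K J).map f).hom.naturality r) w
  have h1 : app prod.fst w = x := mkPair_fst _ _ _ _ _
  have h2 : app prod.snd w = y := mkPair_snd _ _ _ _ _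
  refine Eq.trans (hn (addHom prod.fst prod.snd)).symm ?_
  rw [app_addHom, hn, hn, h1, h2]

variable (J K u) in
/-- The abelian group valued presheaf. -/
noncomputable def psh (A : Sheaf K AddCommGrpCat.{u}) : Cᵒᵖ ⥤ AddCommGrpCat.{u} where
  obj U := AddCommGrpCat.of (Sec J K u A U)
  map {U V} r := AddCommGrpCat.ofHom (AddMonoidHom.mk'
    (res r) (map_res_add r))
  map_id U := by
    ext x
    exact congrArg (fun e => e x) (((u.sheafPullback (Type u) K J).obj (uA K A)).obj.map_id U)
  map_comp {U V W} r s := by
    ext x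
    exact congrArg (fun e => e x) (((u.sheafPullback (Type u) K J).obj (uA K A)).obj.map_comp r s)

variable (J K u) in
/-- The underlying presheaf of sets of `psh`. -/
noncomputable def pshForgetIso (A : Sheaf K AddCommGrpCat.{u}) :
    psh J K u A ⋙ forget AddCommGrpCat.{u} ≅ ((u.sheafPullback (Type u) K J).obj (uA K A)).obj :=
  NatIso.ofComponents (fun _ => Iso.refl _)

variable (J K u) in
lemma psh_isSheaf (A : Sheaf K AddCommGrpCat.{u}) : Presheaf.IsSheaf J (psh J K u A) := by
  rw [Presheaf.isSheaf_iff_isSheaf_forget J (psh J K u A) (forget AddCommGrpCat.{u}),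
    Presheaf.isSheaf_of_iso_iff (pshForgetIso J K u A)]
  exact ((u.sheafPullback (Type u) K J).obj (uA K A)).property

lemma app_map_add {B : Sheaf K AddCommGrpCat.{u}} (φ : A ⟶ B) (x y : Sec J K u A U) :
    app ((sheafCompose K (forget AddCommGrpCat.{u})).map φ) (x + y) =
      app ((sheafCompose K (forget AddCommGrpCat.{u})).map φ) x +
        app ((sheafCompose K (forget AddCommGrpCat.{u})).map φ) y := by
  let w := mkPair (evF J K u U) (uA K A) (uA K A) x y
  have h1 : app prod.fst w = x := mkPair_fst _ _ _ _ _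
  have h2 : app prod.snd w = y := mkPair_snd _ _ _ _ _
  have h : x + y = app (addHom prod.fst prod.snd) w := rfl
  rw [h]
  refine Eq.trans (app_comp _ _ w).symm ?_
  rw [addHom_comp, app_addHom, app_comp, app_comp]
  exact congrArg₂ (fun a b => app _ a + app _ b) h1 h2

variable (J K u) in
/-- The inverse image of abelian sheaves computed through sheaves of sets. -/
noncomputable def pull : Sheaf K AddCommGrpCat.{u} ⥤ Sheaf J AddCommGrpCat.{u} where
  obj A := ⟨psh J K u A, psh_isSheaf J K u A⟩
  map {A B} φ := ⟨{
    app := fun U => AddCommGrpCat.ofHom (AddMonoidHom.mk'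
      (fun x : Sec J K u A U => app ((sheafCompose K (forget AddCommGrpCat.{u})).map φ) x)
      (app_map_add φ))
    naturality := fun U V r => by
      ext x
      exact ConcreteCategory.congr_hom
        (((u.sheafPullback (Type u) K J).map
          ((sheafCompose K (forget AddCommGrpCat.{u})).map φ)).hom.naturality r) x }⟩
  map_id A := by
    ext U x
    exact app_id x
  map_comp {A B B'} φ ψ := by
    ext U x
    refine Eq.trans ?_ (app_comp _ _ x)
    exact congrArg (fun e => app e x)
      ((sheafCompose K (forget AddCommGrpCat.{u})).map_comp φ ψ)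

/-- The adjunction on sheaves of sets. -/
noncomputable abbrev adjT : u.sheafPullback (Type u) K J ⊣ u.sheafPushforwardContinuous (Type u) K J :=
  u.sheafAdjunctionContinuous (Type u) K J

variable (J K u) in
/-- The unit on a sheaf of abelian groups, as a map of sheaves of sets. -/
noncomputable def unitVal (A : Sheaf K AddCommGrpCat.{u}) (V : Dᵒᵖ) (a : A.obj.obj V) :
    Sec J K u A (op (u.obj V.unop)) :=
  (adjT.unit.app (uA K A)).hom.app V a

lemma unitVal_add (V : Dᵒᵖ) (a b : A.obj.obj V) :
    unitVal J K u A V (a + b) = unitVal J K u A V a + unitVal J K u A V b := by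
  let p := mkPair (evS K V) (uA K A) (uA K A) a b
  have hn (f : uA K A ⨯ uA K A ⟶ uA K A) :
      app f ((adjT.unit.app (uA K A ⨯ uA K A)).hom.app V p :
        (evF J K u (op (u.obj V.unop))).obj _) = unitVal J K u A V (f.hom.app V p) :=
    (congr_app_apply (adjT.unit.naturality f) V p).symm
  have h1 : (prod.fst : uA K A ⨯ uA K A ⟶ _).hom.app V p = a :=
    mkPair_fst (evS K V) (uA K A) (uA K A) a b
  have h2 : (prod.snd : uA K A ⨯ uA K A ⟶ _).hom.app V p = b :=
    mkPair_snd (evS K V) (uA K A) (uA K A) a b
  have := (hn (addHom prod.fst prod.snd)).symm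
  rw [app_addHom, hn, hn, h1, h2] at this
  refine Eq.trans ?_ this
  refine congrArg (unitVal J K u A V) ?_
  exact (congrArg₂ (fun s t : A.obj.obj V => s + t) h1 h2).symm

variable (J K u) in
/-- The unit. -/
noncomputable def unit (A : Sheaf K AddCommGrpCat.{u}) :
    A ⟶ (u.sheafPushforwardContinuous AddCommGrpCat.{u} K J).obj ((pull J K u).obj A) :=
  ⟨{ app := fun V => AddCommGrpCat.ofHom (AddMonoidHom.mk' (unitVal J K u A V) (unitVal_add V))
     naturality := fun V W r => by
       ext a
       exact ConcreteCategory.congr_hom (((adjT (J := J) (u := u)).unit.app (uA K A)).hom.naturality r) a }⟩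

lemma unit_naturality {A B : Sheaf K AddCommGrpCat.{u}} (φ : A ⟶ B) :
    φ ≫ unit J K u B = unit J K u A ≫
      (u.sheafPushforwardContinuous AddCommGrpCat.{u} K J).map ((pull J K u).map φ) := by
  ext V a
  exact congr_app_apply ((adjT (J := J) (u := u)).unit.naturality ((sheafCompose K (forget AddCommGrpCat.{u})).map φ)) V a

/-- The underlying map of sheaves of sets. -/
noncomputable def toT {B : Sheaf J AddCommGrpCat.{u}} (φ : (pull J K u).obj A ⟶ B) :
    (u.sheafPullback (Type u) K J).obj (uA K A) ⟶ uA J B :=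
  ⟨(pshForgetIso J K u A).inv ≫ Functor.whiskerRight φ.hom (forget AddCommGrpCat.{u})⟩

lemma toT_app {B : Sheaf J AddCommGrpCat.{u}} (φ : (pull J K u).obj A ⟶ B) (U : Cᵒᵖ)
    (x : Sec J K u A U) : (toT φ).hom.app U x = φ.hom.app U x := rfl

lemma homEquiv_app {X : Sheaf K (Type u)} {Y : Sheaf J (Type u)}
    (f : (u.sheafPullback (Type u) K J).obj X ⟶ Y) (V : Dᵒᵖ) (a : X.obj.obj V) :
    (adjT.homEquiv X Y f).hom.app V a =
      f.hom.app (op (u.obj V.unop)) ((adjT.unit.app X).hom.app V a) := by
  rw [Adjunction.homEquiv_unit]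
  rfl

lemma unit_comp_app {B : Sheaf J AddCommGrpCat.{u}} (φ : (pull J K u).obj A ⟶ B) (V : Dᵒᵖ)
    (a : A.obj.obj V) :
    ((unit J K u A ≫ (u.sheafPushforwardContinuous AddCommGrpCat.{u} K J).map φ).hom.app V a :
      B.obj.obj (op (u.obj V.unop))) = φ.hom.app (op (u.obj V.unop)) (unitVal J K u A V a) := rfl

lemma bijective_unit_comp (A : Sheaf K AddCommGrpCat.{u}) (B : Sheaf J AddCommGrpCat.{u}) :
    Function.Bijective fun φ : (pull J K u).obj A ⟶ B =>
      unit J K u A ≫ (u.sheafPushforwardContinuous AddCommGrpCat.{u} K J).map φ := by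
  refine ⟨fun φ φ' h => ?_, fun ψ => ?_⟩
  · have h1 : toT φ = toT φ' := by
      apply (adjT.homEquiv (uA K A) (uA J B)).injective
      refine hom_ext_app fun V a => ?_
      rw [homEquiv_app, homEquiv_app]
      exact congr_app_apply' h V a
    ext U x
    exact congr_app_apply h1 U x
  · let ψT : uA K A ⟶ (u.sheafPushforwardContinuous (Type u) K J).obj (uA J B) :=
      ⟨{ app := fun V => ↾fun a => (ψ.hom.app V a : B.obj.obj (op (u.obj V.unop)))
         naturality := fun V W r => by
           ext a
           exact ConcreteCategory.congr_hom (ψ.hom.naturality r) a }⟩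
    let f := (adjT.homEquiv (uA K A) (uA J B)).symm ψT
    have key : (u.sheafPullback (Type u) K J).map (addHom prod.fst prod.snd) ≫ f =
        addHom ((u.sheafPullback (Type u) K J).map (prod.fst : uA K A ⨯ uA K A ⟶ _) ≫ f)
          ((u.sheafPullback (Type u) K J).map (prod.snd : uA K A ⨯ uA K A ⟶ _) ≫ f) := by
      apply (adjT.homEquiv _ _).injective
      refine hom_ext_app fun V p => ?_
      have hval : ∀ g : uA K A ⨯ uA K A ⟶ uA K A,
          ((u.sheafPullback (Type u) K J).map g ≫ f).hom.app (op (u.obj V.unop))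
            ((adjT.unit.app (uA K A ⨯ uA K A)).hom.app V p) = ψ.hom.app V (g.hom.app V p) := by
        intro g
        rw [← homEquiv_app, Adjunction.homEquiv_naturality_left, Equiv.apply_symm_apply]
        rfl
      rw [homEquiv_app, homEquiv_app, hval]
      refine Eq.trans (map_add (ψ.hom.app V).hom _ _) ?_
      exact (congrArg₂ (fun s t : B.obj.obj (op (u.obj V.unop)) => s + t)
        (hval prod.fst) (hval prod.snd)).symm
    refine ⟨⟨{ app := fun U => AddCommGrpCat.ofHom (AddMonoidHom.mk'
        (fun x : Sec J K u A U => (f.hom.app U x : B.obj.obj U)) fun x y => ?_)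
               naturality := fun U V r => ?_ }⟩, ?_⟩
    · let w := mkPair (evF J K u U) (uA K A) (uA K A) x y
      have h1 : app prod.fst w = x := mkPair_fst _ _ _ _ _
      have h2 : app prod.snd w = y := mkPair_snd _ _ _ _ _
      refine Eq.trans (congr_app_apply key U w) ?_
      exact congrArg₂ (fun s t : B.obj.obj U => s + t)
        (congrArg (fun z => f.hom.app U z) h1) (congrArg (fun z => f.hom.app U z) h2)
    · ext x
      exact ConcreteCategory.congr_hom (f.hom.naturality r) x
    · ext V a
      have h := homEquiv_app f V a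
      rw [Equiv.apply_symm_apply] at h
      exact h.symm

variable (J K u) in
/-- The adjunction with the direct image. -/
noncomputable def adj : pull J K u ⊣ u.sheafPushforwardContinuous AddCommGrpCat.{u} K J :=
  Adjunction.mkOfHomEquiv
    { homEquiv := fun A B => Equiv.ofBijective _ (bijective_unit_comp A B)
      homEquiv_naturality_left_symm := fun {A' A B} f g => by
        obtain ⟨φ, rfl⟩ := (bijective_unit_comp (J := J) A B).2 g
        apply (Equiv.ofBijective _ (bijective_unit_comp (J := J) A' B)).injective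
        rw [Equiv.apply_symm_apply]
        have hs := Equiv.ofBijective_symm_apply_apply _ (bijective_unit_comp (J := J) A B) φ
        rw [hs]
        change f ≫ unit J K u A ≫ _ = unit J K u A' ≫ _
        rw [Functor.map_comp, ← Category.assoc, unit_naturality, Category.assoc]
      homEquiv_naturality_right := fun {A B B'} φ g => by
        change unit J K u A ≫ _ = (unit J K u A ≫ _) ≫ _
        rw [Functor.map_comp, Category.assoc] }

instance pull_preservesMonomorphisms : (pull J K u).PreservesMonomorphisms where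
  preserves {A B} φ _ := by
    have : (sheafToPresheaf K AddCommGrpCat.{u}).PreservesMonomorphisms :=
      preservesMonomorphisms_of_preservesLimitsOfShape _
    have : Mono ((sheafCompose K (forget AddCommGrpCat.{u})).map φ) := by
      apply (sheafToPresheaf K (Type u)).mono_of_mono_map
      have h : Mono φ.hom := (sheafToPresheaf K AddCommGrpCat.{u}).map_mono φ
      exact inferInstanceAs (Mono (((Functor.whiskeringRight Dᵒᵖ AddCommGrpCat.{u} (Type u)).obj
        (forget AddCommGrpCat.{u})).map φ.hom))
    have : (u.sheafPullback (Type u) K J).PreservesMonomorphisms :=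
      preservesMonomorphisms_of_preservesLimitsOfShape _
    have h' : Mono ((u.sheafPullback (Type u) K J).map
        ((sheafCompose K (forget AddCommGrpCat.{u})).map φ)).hom :=
      (preservesMonomorphisms_of_preservesLimitsOfShape (sheafToPresheaf J (Type u))).preserves _
    apply (sheafToPresheaf J AddCommGrpCat.{u}).mono_of_mono_map
    refine @NatTrans.mono_of_mono_app _ _ _ _ _ _ _ fun U => ?_
    rw [AddCommGrpCat.mono_iff_injective]
    exact (mono_iff_injective _).1 ((NatTrans.mono_iff_mono_app _).1 h' U)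

end Pull

end Groth.Agent.SiteCoh.TypeExact

namespace Groth.Agent.SiteCoh

variable {C D : Type u} [SmallCategory C] [SmallCategory D] (J : GrothendieckTopology C)
  (K : GrothendieckTopology D) (u : D ⥤ C) [u.IsContinuous K J]

/-- A topos morphism with exact inverse image of sheaves of sets has exact inverse image of abelian
sheaves. -/
theorem sheafPullback_preservesFiniteLimits_of_type
    [PreservesFiniteLimits (u.sheafPullback (Type u) K J)] :
    PreservesFiniteLimits (u.sheafPullback AddCommGrpCat.{u} K J) := by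
  have adj' := u.sheafAdjunctionContinuous AddCommGrpCat.{u} K J
  have : (u.sheafPullback AddCommGrpCat.{u} K J).Additive := adj'.left_adjoint_additive
  have : (u.sheafPullback AddCommGrpCat.{u} K J).PreservesMonomorphisms :=
    Functor.PreservesMonomorphisms.of_iso (Adjunction.leftAdjointUniq (TypeExact.adj J K u) adj')
  have hc : PreservesFiniteColimits (u.sheafPullback AddCommGrpCat.{u} K J) :=
    ⟨fun I _ _ => adj'.leftAdjoint_preservesColimits.preservesColimitsOfShape⟩
  refine ((Functor.preservesFiniteLimits_tfae (u.sheafPullback AddCommGrpCat.{u} K J)).out 0 3).1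
    fun S hS => ?_
  have := hS.mono_f
  have h0 : ∀ (S : ShortComplex (Sheaf K AddCommGrpCat.{u})), S.ShortExact →
      (S.map (u.sheafPullback AddCommGrpCat.{u} K J)).Exact ∧
        Epi ((u.sheafPullback AddCommGrpCat.{u} K J).map S.g) :=
    ((Functor.preservesFiniteColimits_tfae (u.sheafPullback AddCommGrpCat.{u} K J)).out 3 0).1 hc
  exact ⟨(h0 S hS).1, inferInstance⟩

end Groth.Agent.SiteCoh
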