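import Groth.Agent.SiteCoh.Free
import Groth.Agent.SiteCoh.TypeExact

/-!
Direct images of acyclic sheaves are acyclic; direct images preserving epimorphisms.
-/

universe u

open CategoryTheory CategoryTheory.Limits Opposite CategoryTheory.Abelian

namespace Groth.Agent.SiteCoh

variable {C D : Type u} [SmallCategory C] [SmallCategory D] (J : GrothendieckTopology C)
  (K : GrothendieckTopology D) (u : D ⥤ C) [u.IsContinuous K J]

lemma push_injective_of_type [PreservesFiniteLimits (u.sheafPullback (Type u) K J)]
    (I : Sheaf J AddCommGrpCat.{u}) [Injective I] : Injective ((CohSite.push J K u).obj I) := by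
  have := sheafPullback_preservesFiniteLimits_of_type J K u
  have : (u.sheafPullback AddCommGrpCat.{u} K J).PreservesMonomorphisms :=
    preservesMonomorphisms_of_preservesLimitsOfShape _
  exact Injective.injective_of_adjoint (u.sheafAdjunctionContinuous AddCommGrpCat.{u} K J) I

/-- A short exact sequence whose kernel is acyclic on all objects is exact on sections. -/
lemma sections_surjective_of_acyclic {S : ShortComplex (Sheaf J AddCommGrpCat.{u})}
    (hS : S.ShortExact) (U : C) [Subsingleton (Ext (CohCx.freeSheaf J U) S.X₁ 1)] :
    Function.Surjective (S.g.hom.app (op U)) := by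
  intro s
  obtain ⟨t, ht⟩ := Ext.covariant_sequence_exact₃ (CohCx.freeSheaf J U) hS
    ((hu0Equiv S.X₃ U).symm s) (zero_add 1) (Subsingleton.elim _ _)
  obtain ⟨t', rfl⟩ := (hu0Equiv S.X₂ U).symm.surjective t
  rw [hu0Equiv_symm_comp_mk₀] at ht
  exact ⟨t', (hu0Equiv S.X₃ U).symm.injective ht⟩

lemma push_exact_mono {S : ShortComplex (Sheaf J AddCommGrpCat.{u})} (hS : S.ShortExact) :
    (S.map (CohSite.push J K u)).Exact ∧ Mono ((CohSite.push J K u).map S.f) := by
  have : (CohSite.push J K u).Additive := inferInstance
  have hpl : PreservesFiniteLimits (CohSite.push J K u) :=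
    ⟨fun I _ _ => (u.sheafAdjunctionContinuous AddCommGrpCat.{u} K J).rightAdjoint_preservesLimits.preservesLimitsOfShape⟩
  have h0 : ∀ (S : ShortComplex (Sheaf J AddCommGrpCat.{u})), S.ShortExact →
      (S.map (CohSite.push J K u)).Exact ∧ Mono ((CohSite.push J K u).map S.f) :=
    ((Functor.preservesFiniteLimits_tfae (CohSite.push J K u)).out 3 0).1 hpl
  exact h0 S hS

/-- The direct image of a short exact sequence exact on sections is short exact. -/
lemma push_shortExact_of_surjective {S : ShortComplex (Sheaf J AddCommGrpCat.{u})} (hS : S.ShortExact)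
    (h : ∀ U : D, Function.Surjective (S.g.hom.app (op (u.obj U)))) :
    (S.map (CohSite.push J K u)).ShortExact := by
  refine { exact := (push_exact_mono J K u hS).1, mono_f := (push_exact_mono J K u hS).2, epi_g := ?_ }
  rw [← Sheaf.isLocallySurjective_iff_epi' AddCommGrpCat.{u}]
  exact Presheaf.isLocallySurjective_of_surjective K _ (fun U => h U.unop)

variable [PreservesFiniteLimits (u.sheafPullback (Type u) K J)]

theorem hu_push_subsingleton (q : ℕ) : ∀ (F : Sheaf J AddCommGrpCat.{u}),
    (∀ (U : C) (q : ℕ), Subsingleton (Ext (CohCx.freeSheaf J U) F (q + 1))) →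
    ∀ V : D, Subsingleton (Ext (CohCx.freeSheaf K V) ((CohSite.push J K u).obj F) (q + 1)) := by
  induction q with
  | zero =>
    intro F hF V
    refine subsingleton_of_forall_eq 0 fun ξ => ?_
    have hS := injSES_shortExact F
    have hsurj : ∀ U : C, Function.Surjective ((injSES F).g.hom.app (op U)) := fun U =>
      have := hF U 0
      sections_surjective_of_acyclic J hS U
    have : (CohSite.push J K u).Additive := inferInstance
    have hSp : ((injSES F).map (CohSite.push J K u)).ShortExact :=
      push_shortExact_of_surjective J K u hS fun U => hsurj (u.obj U)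
    have : Subsingleton (Ext (CohCx.freeSheaf K V) ((injSES F).map (CohSite.push J K u)).X₂ (0 + 1)) := by
      have : Injective ((CohSite.push J K u).obj (Injective.under F)) :=
        push_injective_of_type J K u _
      exact Ext.subsingleton_of_injective _ ((CohSite.push J K u).obj (Injective.under F)) 0
    obtain ⟨s, rfl⟩ := exists_comp_extClass hSp (CohCx.freeSheaf K V) 0 ξ
    obtain ⟨s', rfl⟩ := (hu0Equiv _ V).symm.surjective s
    obtain ⟨t, rfl⟩ := hsurj (u.obj V) s'
    refine Eq.trans (congrArg (fun e => Ext.comp e hSp.extClass rfl)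
      (hu0Equiv_symm_comp_mk₀ ((CohSite.push J K u).map (injSES F).g) V t).symm) ?_
    refine Eq.trans (Ext.comp_assoc _ _ _ (add_zero 0) (zero_add 1) (by omega)) ?_
    exact (congrArg (fun e => Ext.comp _ e _) hSp.comp_extClass).trans (Ext.comp_zero _ _ _ _ _)
  | succ q ih =>
    intro F hF V
    refine subsingleton_of_forall_eq 0 fun ξ => ?_
    have hS := injSES_shortExact F
    have hQ : ∀ (U : C) (q : ℕ), Subsingleton (Ext (CohCx.freeSheaf J U) (injSES F).X₃ (q + 1)) := by
      intro U q
      refine subsingleton_of_forall_eq 0 fun η => ?_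
      have : Subsingleton (Ext (CohCx.freeSheaf J U) (injSES F).X₂ (q + 1)) :=
        Ext.subsingleton_of_injective _ (Injective.under F) q
      have := hF U (q + 1)
      obtain ⟨t, rfl⟩ := Ext.covariant_sequence_exact₃ (CohCx.freeSheaf J U) hS η rfl
        (Subsingleton.elim _ _)
      rw [Subsingleton.elim t 0, Ext.zero_comp]
    have hsurj : ∀ U : C, Function.Surjective ((injSES F).g.hom.app (op U)) := fun U =>
      have := hF U 0
      sections_surjective_of_acyclic J hS U
    have : (CohSite.push J K u).Additive := inferInstance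
    have hSp : ((injSES F).map (CohSite.push J K u)).ShortExact :=
      push_shortExact_of_surjective J K u hS fun U => hsurj (u.obj U)
    have : Subsingleton (Ext (CohCx.freeSheaf K V) ((injSES F).map (CohSite.push J K u)).X₂ (q + 1 + 1)) := by
      have : Injective ((CohSite.push J K u).obj (Injective.under F)) :=
        push_injective_of_type J K u _
      exact Ext.subsingleton_of_injective _ ((CohSite.push J K u).obj (Injective.under F)) (q + 1)
    obtain ⟨s, rfl⟩ := exists_comp_extClass hSp (CohCx.freeSheaf K V) (q + 1) ξ
    have : Subsingleton (Ext (CohCx.freeSheaf K V) ((injSES F).map (CohSite.push J K u)).X₃ (q + 1)) :=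
      ih (injSES F).X₃ hQ V
    rw [Subsingleton.elim s 0, Ext.zero_comp]
    rfl

omit [PreservesFiniteLimits (u.sheafPullback (Type u) K J)] in
/-- If the direct image of sheaves of sets preserves epimorphisms, so does that of abelian sheaves. -/
theorem push_preservesFiniteColimits_of_type
    [(u.sheafPushforwardContinuous (Type u) K J).PreservesEpimorphisms] :
    PreservesFiniteColimits (u.sheafPushforwardContinuous AddCommGrpCat.{u} K J) := by
  have : (u.sheafPushforwardContinuous AddCommGrpCat.{u} K J).Additive :=
    inferInstanceAs (CohSite.push J K u).Additive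
  refine ((Functor.preservesFiniteColimits_tfae _).out 0 3).1 fun S hS => ?_
  have := hS.mono_f
  have := hS.epi_g
  refine ⟨(push_exact_mono J K u hS).1, ?_⟩
  rw [← Sheaf.isLocallySurjective_iff_epi' AddCommGrpCat.{u}]
  have h1 : Sheaf.IsLocallySurjective S.g :=
    (Sheaf.isLocallySurjective_iff_epi' AddCommGrpCat.{u} _).2 inferInstance
  have h2 : Sheaf.IsLocallySurjective ((sheafCompose J (forget AddCommGrpCat.{u})).map S.g) :=
    (Presheaf.isLocallySurjective_iff_whisker_forget J S.g.hom).1 h1
  have h3 : Epi ((sheafCompose J (forget AddCommGrpCat.{u})).map S.g) :=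
    (Sheaf.isLocallySurjective_iff_epi _).1 h2
  have h4 : Sheaf.IsLocallySurjective ((u.sheafPushforwardContinuous (Type u) K J).map
      ((sheafCompose J (forget AddCommGrpCat.{u})).map S.g)) :=
    (Sheaf.isLocallySurjective_iff_epi _).2 inferInstance
  exact (Presheaf.isLocallySurjective_iff_whisker_forget K _).2 h4

end Groth.Agent.SiteCoh
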