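import Groth.Agent.SiteCoh.ExtCompare
import Groth.Agent.SiteCoh.LanExact

/-!
Cohomology of an object as cohomology of the localised site.
-/

universe u

open CategoryTheory CategoryTheory.Limits Opposite CategoryTheory.Abelian

namespace Groth.Agent.SiteCoh

variable {C : Type u} [SmallCategory C] {J : GrothendieckTopology C}

/-- Morphisms out of the constant sheaf `ℤ` are sections over a terminal object. -/
noncomputable def homConstEquiv {T : C} (hT : IsTerminal T) (F : Sheaf J AddCommGrpCat.{u}) :
    ((constantSheaf J AddCommGrpCat.{u}).obj (AddCommGrpCat.of (ULift.{u} ℤ)) ⟶ F) ≃+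
      F.obj.obj (op T) :=
  ((constantSheafAdj J AddCommGrpCat.{u} hT).homAddEquiv _ F).trans
    (AddCommGrpCat.uliftZMultiplesAddEquiv _)

lemma homConstEquiv_comp {T : C} (hT : IsTerminal T) {F G : Sheaf J AddCommGrpCat.{u}}
    (φ : (constantSheaf J AddCommGrpCat.{u}).obj (AddCommGrpCat.of (ULift.{u} ℤ)) ⟶ F)
    (g : F ⟶ G) : homConstEquiv hT G (φ ≫ g) = g.hom.app (op T) (homConstEquiv hT F φ) := by
  simp only [homConstEquiv, AddEquiv.trans_apply, Adjunction.homAddEquiv_apply,
    Adjunction.homEquiv_naturality_right]
  rfl

section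

variable {D : Type u} [SmallCategory D] (J) (K : GrothendieckTopology D) (u : D ⥤ C)
  [u.IsContinuous K J] [u.IsCocontinuous K J]

instance push_preservesFiniteLimits : PreservesFiniteLimits (CohSite.push J K u) :=
  ⟨fun I _ _ => (u.sheafAdjunctionContinuous AddCommGrpCat.{u} K J).rightAdjoint_preservesLimits
    |>.preservesLimitsOfShape⟩

instance push_preservesFiniteColimits : PreservesFiniteColimits (CohSite.push J K u) :=
  ⟨fun I _ _ => (u.sheafAdjunctionCocontinuous AddCommGrpCat.{u} K J).leftAdjoint_preservesColimits
    |>.preservesColimitsOfShape⟩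

end

instance over_preservesFiniteLimits (U : C) :
    PreservesFiniteLimits (J.overPullback AddCommGrpCat.{u} U) :=
  inferInstanceAs (PreservesFiniteLimits (CohSite.push J (J.over U) (Over.forget U)))

instance over_preservesFiniteColimits (U : C) :
    PreservesFiniteColimits (J.overPullback AddCommGrpCat.{u} U) :=
  inferInstanceAs (PreservesFiniteColimits (CohSite.push J (J.over U) (Over.forget U)))

/-- Restriction to `C/U` preserves injective abelian sheaves. -/
instance over_injective (U : C) (I : Sheaf J AddCommGrpCat.{u}) [Injective I] :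
    Injective (I.over U) :=
  inferInstanceAs (Injective ((CohSite.push J (J.over U) (Over.forget U)).obj I))

/-- The section of the restriction of the free sheaf on `U` given by the identity. -/
noncomputable def overUnit (U : C) :
    (constantSheaf (J.over U) AddCommGrpCat.{u}).obj (AddCommGrpCat.of (ULift.{u} ℤ)) ⟶
      (J.overPullback AddCommGrpCat.{u} U).obj (CohCx.freeSheaf J U) :=
  (homConstEquiv Over.mkIdTerminal _).symm (freeSec J U)

/-- `H^n(U, F) ≅ H^n(C/U, F|_U)`. -/
noncomputable def huOverEquiv (F : Sheaf J AddCommGrpCat.{u}) (U : C) (n : ℕ) :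
    Ext (CohCx.freeSheaf J U) F n ≃+ Sheaf.H.{u} (F.over U) n :=
  AddEquiv.ofBijective (extTransfer (J.overPullback AddCommGrpCat.{u} U) (overUnit U) F n)
    (extTransfer_bijective _ _
      (fun G => by
        have e : (fun φ : CohCx.freeSheaf J U ⟶ G =>
            overUnit U ≫ (J.overPullback AddCommGrpCat.{u} U).map φ) =
            (homConstEquiv Over.mkIdTerminal _).symm ∘ (homAddEquivSec U G) := by
          funext φ
          apply (homConstEquiv Over.mkIdTerminal _).injective
          rw [homConstEquiv_comp, overUnit, AddEquiv.apply_symm_apply, Function.comp_apply,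
            AddEquiv.apply_symm_apply]
          rfl
        rw [e]
        exact (homConstEquiv Over.mkIdTerminal _).symm.bijective.comp (homAddEquivSec U G).bijective)
      (fun I _ n => Ext.subsingleton_of_injective _ _ n) n F)

lemma huOverEquiv_naturality {F G : Sheaf J AddCommGrpCat.{u}} (f : F ⟶ G) (U : C) (n : ℕ)
    (ξ : Ext (CohCx.freeSheaf J U) F n) :
    huOverEquiv G U n (ξ.comp (Ext.mk₀ f) (add_zero n)) =
      (huOverEquiv F U n ξ).comp (Ext.mk₀ ((J.overPullback AddCommGrpCat.{u} U).map f)) (add_zero n) :=
  extTransfer_naturality _ _ _ _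

end Groth.Agent.SiteCoh
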