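import Groth.Agent.SiteCoh.Free
import Mathlib.CategoryTheory.Sites.Adjunction

/-!
Free abelian sheaves on sheaves of sets, and their relation with the free sheaves on representables.
-/

universe u

open CategoryTheory CategoryTheory.Limits Opposite CategoryTheory.Abelian

namespace Groth.Agent.SiteCoh

variable {C : Type u} [SmallCategory C] (J : GrothendieckTopology C)

/-- The free abelian sheaf on a sheaf of sets. -/
noncomputable abbrev freeAb : Sheaf J (Type u) ⥤ Sheaf J AddCommGrpCat.{u} :=
  Sheaf.composeAndSheafify J AddCommGrpCat.free.{u}

/-- Free abelian sheaf / underlying sheaf of sets. -/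
noncomputable def freeAbAdj : freeAb J ⊣ sheafCompose J (forget AddCommGrpCat.{u}) :=
  Sheaf.adjunction J AddCommGrpCat.adj

/-- Sheafifying a presheaf of sets commutes with the free abelian group construction. -/
noncomputable def freeAbSheafifyIso :
    presheafToSheaf J (Type u) ⋙ freeAb J ≅
      (Functor.whiskeringRight Cᵒᵖ _ _).obj AddCommGrpCat.free.{u} ⋙
        presheafToSheaf J AddCommGrpCat.{u} :=
  Adjunction.leftAdjointUniq
    ((sheafificationAdjunction J (Type u)).comp (freeAbAdj J))
    (((AddCommGrpCat.adj.whiskerRight Cᵒᵖ).comp (sheafificationAdjunction J AddCommGrpCat.{u})).ofNatIsoRight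
      (Iso.refl _))

/-- The sheaf of sets represented by `U`, sheafified. -/
noncomputable abbrev reprSh (U : C) : Sheaf J (Type u) :=
  (presheafToSheaf J (Type u)).obj (yoneda.obj U)

/-- The free abelian sheaf on `U` is free on the sheaf of sets represented by `U`. -/
noncomputable def freeAbReprIso (U : C) : (freeAb J).obj (reprSh J U) ≅ CohCx.freeSheaf J U :=
  (freeAbSheafifyIso J).app (yoneda.obj U)

instance : (sheafCompose J (forget AddCommGrpCat.{u})).Faithful where
  map_injective {F G} f g h := by
    have h' : ((sheafCompose J (forget AddCommGrpCat.{u})).map f).hom =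
        ((sheafCompose J (forget AddCommGrpCat.{u})).map g).hom := by rw [h]
    ext U x
    exact ConcreteCategory.congr_hom (NatTrans.congr_app h' U) x

end Groth.Agent.SiteCoh
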