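import Groth.Agent.SiteCoh.Rpush
import Mathlib.CategoryTheory.Sites.LocallyBijective
import Mathlib.CategoryTheory.Limits.FunctorCategory.Basic

/-!
Colimits and higher direct images, tested on a covering class of objects.
-/

universe u

open CategoryTheory CategoryTheory.Limits Opposite

namespace Groth.Agent.SiteCoh

variable {C D : Type u} [SmallCategory C] [SmallCategory D] {K : GrothendieckTopology D}

/-- A map of presheaves which is bijective on a covering class is a sheafwise isomorphism. -/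
lemma w_of_locally_bijective {P Q : Dᵒᵖ ⥤ AddCommGrpCat.{u}} (φ : P ⟶ Q)
    (h : ∀ V : D, ∃ S ∈ K V, ∀ ⦃W : D⦄ (g : W ⟶ V), S g → ∃ (Y : D) (a : Y ⟶ V) (b : W ⟶ Y),
      b ≫ a = g ∧ Function.Bijective (φ.app (op Y))) : K.W φ := by
  have : Presheaf.IsLocallyInjective K φ := by
    refine ⟨fun {X} x y e => ?_⟩
    obtain ⟨S, hS, hS'⟩ := h X.unop
    refine K.superset_covering (fun W g hg => ?_) hS
    obtain ⟨Y, a, b, rfl, hb⟩ := hS' g hg
    have : P.map a.op x = P.map a.op y := by
      apply hb.1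
      rw [NatTrans.naturality_apply φ a.op x, NatTrans.naturality_apply φ a.op y, e]
    change P.map (b ≫ a).op x = P.map (b ≫ a).op y
    simp only [op_comp, Functor.map_comp, ConcreteCategory.comp_apply]
    rw [this]
  have : Presheaf.IsLocallySurjective K φ := by
    refine ⟨fun {U} s => ?_⟩
    obtain ⟨S, hS, hS'⟩ := h U
    refine K.superset_covering (fun W g hg => ?_) hS
    obtain ⟨Y, a, b, rfl, hb⟩ := hS' g hg
    obtain ⟨t, ht⟩ := hb.2 (Q.map a.op s)
    refine ⟨P.map b.op t, ?_⟩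
    rw [NatTrans.naturality_apply φ b.op t, ht]
    simp
  exact K.W_of_isLocallyBijective φ

variable {J : GrothendieckTopology C} (u : D ⥤ C) [u.IsContinuous K J]

/-- `R^p u_*` preserves a colimit if `H^p(u Y, -)` does for `Y` in a covering class. -/
theorem rpush_preservesColimit {ι : Type u} [SmallCategory ι]
    (F : ι ⥤ Sheaf J AddCommGrpCat.{u}) (p : ℕ)
    (h : ∀ V : D, ∃ (κ : Type u) (Y : κ → D) (g : ∀ k, Y k ⟶ V), Sieve.ofArrows Y g ∈ K V ∧
      ∀ k, PreservesColimit F ((Sheaf.cohomologyPresheafFunctor J p).flip.obj (op (u.obj (Y k))))) :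
    PreservesColimit F (CohSite.Rpush J K u p) := by
  let G : Sheaf J AddCommGrpCat.{u} ⥤ Dᵒᵖ ⥤ AddCommGrpCat.{u} :=
    Sheaf.cohomologyPresheafFunctor J p ⋙ (Functor.whiskeringLeft _ _ _).obj u.op
  let a := presheafToSheaf K AddCommGrpCat.{u}
  suffices PreservesColimit F (G ⋙ a) from
    preservesColimit_of_natIso F (show G ⋙ a ≅ CohSite.Rpush J K u p from
      Functor.associator _ _ _ ≪≫ (rpushIso K u p).symm)
  refine ⟨fun {c} hc => ?_⟩
  let m : colimit.cocone (F ⋙ G) ⟶ G.mapCocone c :=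
    (colimit.isColimit (F ⋙ G)).descCoconeMorphism (G.mapCocone c)
  have hW : K.W m.hom := by
    refine w_of_locally_bijective _ fun V => ?_
    obtain ⟨κ, Yf, g, hY, hY'⟩ := h V
    refine ⟨_, hY, ?_⟩
    rintro W f ⟨_, b, _, ⟨k⟩, rfl⟩
    refine ⟨_, g k, b, rfl, ?_⟩
    let ev := (evaluation Dᵒᵖ AddCommGrpCat.{u}).obj (op (Yf k))
    have := hY' k
    have h1 : IsColimit (ev.mapCocone (G.mapCocone c)) :=
      isColimitOfPreserves ((Sheaf.cohomologyPresheafFunctor J p).flip.obj (op (u.obj (Yf k)))) hc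
    have h2 : IsColimit (ev.mapCocone (colimit.cocone (F ⋙ G))) :=
      isColimitOfPreserves ev (colimit.isColimit _)
    have h3 : IsIso ((Cocone.functoriality (F ⋙ G) ev).map m) :=
      IsColimit.hom_isIso h2 h1 _
    have h4 : IsIso (m.hom.app (op (Yf k))) :=
      inferInstanceAs (IsIso ((Cocone.forget _).map ((Cocone.functoriality (F ⋙ G) ev).map m)))
    exact ConcreteCategory.bijective_of_isIso _
  have : IsIso (a.map m.hom) :=
    ((K.W_iff _).1 hW)
  have : IsIso ((Cocone.functoriality (F ⋙ G) a).map m).hom := ‹IsIso (a.map m.hom)›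
  have : IsIso ((Cocone.functoriality (F ⋙ G) a).map m) := Cocone.cocone_iso_of_hom_iso _
  exact ⟨(isColimitOfPreserves a (colimit.isColimit (F ⋙ G))).ofIsoColimit
    (asIso ((Cocone.functoriality (F ⋙ G) a).map m))⟩

end Groth.Agent.SiteCoh
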