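import Groth.Agent.SiteCoh.Free
import Groth.Agent.SiteCoh.ExtRes

/-!
The cohomology presheaf as a right derived functor and higher direct images as sheafifications.
-/

universe u

open CategoryTheory CategoryTheory.Limits Opposite CategoryTheory.Abelian

namespace Groth.Agent.SiteCoh

variable {C : Type u} [SmallCategory C] (J : GrothendieckTopology C)

/-- `U ↦` free abelian sheaf on `U`, as a functor. -/
noncomputable abbrev freeFun : C ⥤ Sheaf J AddCommGrpCat.{u} :=
  yoneda ⋙ (Functor.whiskeringRight _ _ _).obj AddCommGrpCat.free.{u} ⋙ presheafToSheaf _ _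

/-- Morphisms out of the free sheaves form the underlying presheaf, naturally in both variables. -/
noncomputable def homPreFreeIso : homPre (freeFun J) ≅ sheafToPresheaf J AddCommGrpCat.{u} :=
  NatIso.ofComponents
    (fun F => NatIso.ofComponents (fun U => (homAddEquivSec U.unop F).toAddCommGrpIso)
      (fun {U V} g => by
        ext φ
        exact homAddEquivSec_freeSheafMap_comp g.unop φ))
    (fun {F G} h => by
      ext U φ
      exact homAddEquivSec_comp φ h)

/-- The `n`-th derived functor of `F ↦` underlying presheaf is `F ↦ (U ↦ H^n(U, F))`. -/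
noncomputable def rightDerivedSheafToPresheafIso (n : ℕ) :
    (sheafToPresheaf J AddCommGrpCat.{u}).rightDerived n ≅
      (Sheaf.cohomologyPresheafFunctor J n : Sheaf J AddCommGrpCat.{u} ⥤ Cᵒᵖ ⥤ AddCommGrpCat.{u}) where
  hom := NatTrans.rightDerived (homPreFreeIso J).inv n ≫ (rightDerivedHomPreIso (freeFun J) n).hom
  inv := (rightDerivedHomPreIso (freeFun J) n).inv ≫ NatTrans.rightDerived (homPreFreeIso J).hom n
  hom_inv_id := by
    simp [← NatTrans.rightDerived_comp]
  inv_hom_id := by
    simp [← NatTrans.rightDerived_comp_assoc, NatTrans.rightDerived_id]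

variable {J} {D : Type u} [SmallCategory D] (K : GrothendieckTopology D) (u : D ⥤ C)
  [u.IsContinuous K J]

/-- Restriction along `u` of presheaves, followed by sheafification. -/
noncomputable abbrev restrSheafify : (Cᵒᵖ ⥤ AddCommGrpCat.{u}) ⥤ Sheaf K AddCommGrpCat.{u} :=
  (Functor.whiskeringLeft Dᵒᵖ Cᵒᵖ AddCommGrpCat.{u}).obj u.op ⋙ presheafToSheaf K AddCommGrpCat.{u}

variable (J) in
/-- The direct image is restriction of the underlying presheaf followed by sheafification. -/
noncomputable def pushIso :
    sheafToPresheaf J AddCommGrpCat.{u} ⋙ restrSheafify K u ≅ CohSite.push J K u :=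
  NatIso.ofComponents
    (fun F => (asIso (sheafificationAdjunction K AddCommGrpCat.{u}).counit).app
      ((CohSite.push J K u).obj F))
    (fun {_ _} f => (sheafificationAdjunction K AddCommGrpCat.{u}).counit.naturality
      ((CohSite.push J K u).map f))

/-- `R^n u_*` is the sheafification of `V ↦ H^n(u V, -)`, naturally in the sheaf. -/
noncomputable def rpushIso (n : ℕ) :
    CohSite.Rpush J K u n ≅ Sheaf.cohomologyPresheafFunctor J n ⋙ restrSheafify K u :=
  (show CohSite.Rpush J K u n ≅
      (sheafToPresheaf J AddCommGrpCat.{u} ⋙ restrSheafify K u).rightDerived n from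
    { hom := NatTrans.rightDerived (pushIso J K u).inv n
      inv := NatTrans.rightDerived (pushIso J K u).hom n
      hom_inv_id := by simp [← NatTrans.rightDerived_comp, NatTrans.rightDerived_id]
      inv_hom_id := by simp [← NatTrans.rightDerived_comp, NatTrans.rightDerived_id] }) ≪≫
  rightDerivedCompExactIso _ _ n ≪≫
  Functor.isoWhiskerRight (rightDerivedSheafToPresheafIso J n) _

end Groth.Agent.SiteCoh
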