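import Groth.Agent.SiteCoh.Over
import Groth.Agent.SiteCoh.Torsion
import Mathlib.CategoryTheory.Limits.Constructions.Over.Basic
import Mathlib.CategoryTheory.Limits.Preserves.Shapes.Over
import Mathlib.CategoryTheory.Limits.Constructions.FiniteProductsOfBinaryProducts

/-!
Acyclicity on objects of direct images of injectives, and invariance of cohomology under
continuous and cocontinuous functors commuting with fibre products.
-/

universe u

open CategoryTheory CategoryTheory.Limits Opposite CategoryTheory.Abelian

namespace Groth.Agent.SiteCoh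

variable {C : Type u} [SmallCategory C] {J : GrothendieckTopology C}

/-- The constant sheaf `ℤ` is free on a terminal object. -/
noncomputable def constFreeIso {T : C} (hT : IsTerminal T) :
    (constantSheaf J AddCommGrpCat.{u}).obj (AddCommGrpCat.of (ULift.{u} ℤ)) ≅
      CohCx.freeSheaf J T where
  hom := (homConstEquiv hT _).symm (freeSec J T)
  inv := (homAddEquivSec T _).symm (homConstEquiv hT _ (𝟙 _))
  hom_inv_id := by
    apply (homConstEquiv hT _).injective
    rw [homConstEquiv_comp, AddEquiv.apply_symm_apply, ← homAddEquivSec_apply,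
      AddEquiv.apply_symm_apply]
  inv_hom_id := by
    apply (homAddEquivSec T _).injective
    rw [homAddEquivSec_comp, AddEquiv.apply_symm_apply, ← homConstEquiv_comp, Category.id_comp,
      AddEquiv.apply_symm_apply]
    rfl

/-- A totally acyclic sheaf has no higher cohomology on a site with a terminal object. -/
theorem h_subsingleton_of_isTotallyAcyclic {T : C} (hT : IsTerminal T)
    {F : Sheaf J AddCommGrpCat.{u}} (hF : CohCx.IsTotallyAcyclic F) (p : ℕ) :
    Subsingleton (Sheaf.H.{u} F (p + 1)) := by
  have : Subsingleton (Ext (CohCx.freeSheaf J T) F (p + 1)) :=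
    hu_subsingleton_of_isTotallyAcyclic hF T p
  refine subsingleton_of_forall_eq 0 fun ξ => ?_
  have e : (Ext.mk₀ (constFreeIso hT).inv).comp ξ (zero_add (p + 1)) = 0 := Subsingleton.elim _ _
  rw [← Ext.mk₀_id_comp ξ, ← (constFreeIso (J := J) hT).hom_inv_id, ← Ext.mk₀_comp_mk₀,
    Ext.comp_assoc _ _ _ (zero_add 0) (zero_add (p + 1)) (by omega), e, Ext.comp_zero]

variable {D : Type u} [SmallCategory D] (K : GrothendieckTopology D) (u : C ⥤ D)

lemma overPost_preservesFiniteLimits [HasPullbacks C]
    [PreservesLimitsOfShape WalkingCospan u] (U : C) :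
    PreservesFiniteLimits (Over.post (X := U) u) := by
  have : HasFiniteLimits (Over U) := hasFiniteLimits_of_hasTerminal_and_pullbacks
  have h1 : PreservesLimitsOfShape WalkingCospan (Over.post (X := U) u) := by
    have : PreservesLimitsOfShape WalkingCospan (Over.post (X := U) u ⋙ Over.forget _) :=
      inferInstanceAs (PreservesLimitsOfShape WalkingCospan (Over.forget U ⋙ u))
    exact preservesLimitsOfShape_of_reflects_of_preserves _ (Over.forget _)
  have h2 : PreservesLimitsOfShape (Discrete PEmpty.{1}) (Over.post (X := U) u) := by
    constructor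
    intro E
    have e : E ≅ Functor.empty.{0} (Over U) := (Functor.uniqueFromEmpty E)
    refine @preservesLimit_of_iso_diagram _ _ _ _ _ _ _ _ (Over.post (X := U) u) e.symm ?_
    exact preservesLimit_of_preserves_limit_cone (F := Over.post (X := U) u)
      (show IsLimit (asEmptyCone (Over.mk (𝟙 U))) from Over.mkIdTerminal)
      ((isLimitMapConeEmptyConeEquiv _ _).symm
        (Over.mkIdTerminal.ofIso (Over.isoMk (Iso.refl _) ((Category.id_comp _).trans (u.map_id U)))))
  exact preservesFiniteLimits_of_preservesTerminal_and_pullbacks _

variable [u.IsContinuous J K] [u.IsCocontinuous J K]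

/-- The direct image of an injective is acyclic on objects. -/
theorem hu_push_injective [HasPullbacks C] (hu : CoverPreserving J K u)
    [PreservesLimitsOfShape WalkingCospan u]
    (I : Sheaf K AddCommGrpCat.{u}) [Injective I] (U : C) (p : ℕ) :
    Subsingleton (Ext (CohCx.freeSheaf J U) ((CohSite.push K J u).obj I) (p + 1)) := by
  let P : Over U ⥤ Over (u.obj U) := Over.post u
  have : HasFiniteLimits (Over U) := hasFiniteLimits_of_hasTerminal_and_pullbacks
  have : PreservesFiniteLimits P := overPost_preservesFiniteLimits u U
  have : RepresentablyFlat P := flat_of_preservesFiniteLimits P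
  have : P.IsContinuous (J.over U) (K.over (u.obj U)) :=
    Functor.isContinuous_of_coverPreserving (compatiblePreservingOfFlat _ P) (hu.overPost U)
  have : PreservesFiniteLimits (P.sheafPullback AddCommGrpCat.{u} (J.over U) (K.over (u.obj U))) :=
    Functor.sheafPullbackConstruction.preservesFiniteLimits P AddCommGrpCat.{u} _ _
  have h := isTotallyAcyclic_of_torExtends
    (torExtends_push (K := J.over U) P (torExtends_of_injective (J := K.over (u.obj U)) (I.over (u.obj U))))
  have : Subsingleton (Sheaf.H.{u} (((CohSite.push K J u).obj I).over U) (p + 1)) :=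
    h_subsingleton_of_isTotallyAcyclic Over.mkIdTerminal h p
  exact (huOverEquiv ((CohSite.push K J u).obj I) U (p + 1)).toEquiv.subsingleton

/-- Degree zero of the comparison. -/
noncomputable def pushUnit (U : C) :
    CohCx.freeSheaf J U ⟶ (CohSite.push K J u).obj (CohCx.freeSheaf K (u.obj U)) :=
  (homAddEquivSec U _).symm (freeSec K (u.obj U))

/-- `H^n(uU, F) ≅ H^n(U, g⁻¹F)`. -/
noncomputable def huPushEquiv [HasPullbacks C] (hu : CoverPreserving J K u)
    [PreservesLimitsOfShape WalkingCospan u] (F : Sheaf K AddCommGrpCat.{u}) (U : C) (n : ℕ) :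
    Ext (CohCx.freeSheaf K (u.obj U)) F n ≃+
      Ext (CohCx.freeSheaf J U) ((CohSite.push K J u).obj F) n :=
  AddEquiv.ofBijective (extTransfer (CohSite.push K J u) (pushUnit K u U) F n)
    (extTransfer_bijective _ _
      (fun G => by
        have e : (fun φ : CohCx.freeSheaf K (u.obj U) ⟶ G =>
            pushUnit K u U ≫ (CohSite.push K J u).map φ) =
            (homAddEquivSec U ((CohSite.push K J u).obj G)).symm ∘ (homAddEquivSec (u.obj U) G) := by
          funext φ
          apply (homAddEquivSec U _).injective
          rw [homAddEquivSec_comp, pushUnit, AddEquiv.apply_symm_apply, Function.comp_apply,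
            AddEquiv.apply_symm_apply]
          rfl
        rw [e]
        exact (homAddEquivSec U ((CohSite.push K J u).obj G)).symm.bijective.comp
          (homAddEquivSec (u.obj U) G).bijective)
      (fun I _ m => hu_push_injective K u hu I U m) n F)

end Groth.Agent.SiteCoh
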