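import Groth.Agent.CohDer42.CompactBdd
import Groth.Agent.CohDer42.FiniteDim
import Groth.Agent.CohDer42.Res
import Mathlib.Algebra.Homology.DerivedCategory.TStructure
import Mathlib.Algebra.Homology.HomotopyCategory.Plus
import Mathlib.Algebra.Homology.HomotopyCategory.KInjective
import Mathlib.Algebra.Homology.DerivedCategory.Ext.EnoughInjectives
import Mathlib.Algebra.Homology.DerivedCategory.Ext.ExactSequences

/-!
An object `Z` of a Grothendieck abelian category whose `Ext` functors commute with direct sums: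
maps out of `Z[0]` commute with direct sums of complexes that are uniformly bounded below, and
with all direct sums if moreover `Ext^p(Z, -) = 0` for `p ≫ 0`.
-/

universe v u

open CategoryTheory Category Limits HomologicalComplex Opposite CategoryTheory.Abelian
open Groth.Agent.CohDer42 Groth.Agent.CohDer42.CompactBdd
open scoped ZeroObject

set_option autoImplicit false
set_option linter.unusedSectionVars false
set_option backward.isDefEq.respectTransparency false

attribute [local instance] CategoryTheory.Abelian.hasFiniteBiproducts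

namespace Groth.Agent.SiteCoh

variable {A : Type u} [Category.{v} A] [Abelian A] [HasExt.{v} A]

/-- `Ext^p(Z, X) = 0` for all positive `p`. -/
def AcE (Z : A) : ObjectProperty A := fun X => ∀ p : ℕ, Subsingleton (Ext.{v} Z X (p + 1))

lemma acE_of_injective (Z X : A) [Injective X] : AcE Z X := fun _ =>
  Ext.subsingleton_of_injective _ _ _

lemma subsingleton_ext_of_iso {Z X Y : A} (e : X ≅ Y) (n : ℕ) [Subsingleton (Ext.{v} Z X n)] :
    Subsingleton (Ext.{v} Z Y n) := by
  refine subsingleton_of_forall_eq 0 fun y => ?_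
  have h : (y.comp (Ext.mk₀ e.inv) (add_zero n)).comp (Ext.mk₀ e.hom) (add_zero n) = y := by simp
  rw [← h, Subsingleton.elim (y.comp (Ext.mk₀ e.inv) (add_zero n)) 0, Ext.zero_comp]

lemma acE_of_iso {Z X Y : A} (e : X ≅ Y) (h : AcE Z X) : AcE Z Y := fun p =>
  have := h p
  subsingleton_ext_of_iso e (p + 1)

lemma acE_of_isZero {Z X : A} (h : IsZero X) : AcE Z X := fun p => by
  refine subsingleton_of_forall_eq 0 fun y => ?_
  rw [← Ext.comp_mk₀_id y, h.eq_of_src (𝟙 X) 0]
  simp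

lemma subsingleton_ext_X₃ {Z : A} {S : ShortComplex A} (hS : S.ShortExact) (n : ℕ)
    [Subsingleton (Ext.{v} Z S.X₁ (n + 1))] [Subsingleton (Ext.{v} Z S.X₂ n)] :
    Subsingleton (Ext.{v} Z S.X₃ n) := by
  refine subsingleton_of_forall_eq 0 fun x => ?_
  obtain ⟨y, rfl⟩ := Ext.covariant_sequence_exact₃ Z hS x rfl (Subsingleton.elim _ _)
  rw [Subsingleton.elim y 0, Ext.zero_comp]

lemma acE_biprod {Z X Y : A} (hX : AcE Z X) (hY : AcE Z Y) : AcE Z (X ⊞ Y) := fun p => by
  have := hX p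
  have := hY p
  refine subsingleton_of_forall_eq 0 fun x => ?_
  obtain ⟨y, rfl⟩ := Ext.covariant_sequence_exact₂ Z
    (ShortComplex.Splitting.ofHasBinaryBiproduct X Y).shortExact x (Subsingleton.elim (α := Ext Z Y (p + 1)) _ _)
  rw [Subsingleton.elim (α := Ext Z X (p + 1)) y 0, Ext.zero_comp]

lemma exists_lift {Z : A} {S : ShortComplex A} (hS : S.ShortExact)
    [Subsingleton (Ext.{v} Z S.X₁ 1)] (f : Z ⟶ S.X₃) : ∃ g : Z ⟶ S.X₂, g ≫ S.g = f := by
  obtain ⟨y, hy⟩ := Ext.covariant_sequence_exact₃ Z hS (Ext.mk₀ f) (zero_add 1) (Subsingleton.elim _ _)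
  refine ⟨Ext.homEquiv₀ y, ?_⟩
  rw [← Ext.mk₀_homEquiv₀_apply y, Ext.mk₀_comp_mk₀] at hy
  exact Ext.homEquiv₀.symm.injective hy

/-- Every map from `Z` into the cycles of `M` in degree `0` comes from degree `-1`. -/
lemma exists_d_of_cycles {Z : A} {M : CochainComplex A ℤ} (hM : M.Acyclic)
    (hZ : AcE Z (M.cycles (-1))) (x : Z ⟶ M.X 0) (hx : x ≫ M.d 0 1 = 0) :
    ∃ y : Z ⟶ M.X (-1), y ≫ M.d (-1) 0 = x := by
  have hS := FiniteDim.shortExact_cycSC M (-1) 0 (by simp) (by simp) (hM 0)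
  have : Subsingleton (Ext.{v} Z (FiniteDim.cycSC M (-1) 0).X₁ 1) := hZ 0
  obtain ⟨y, hy⟩ := exists_lift hS (M.liftCycles x 1 (by simp) hx)
  refine ⟨y, ?_⟩
  rw [← M.toCycles_i (-1) 0]
  exact (assoc _ _ _).symm.trans ((congrArg (· ≫ M.iCycles 0) hy).trans (M.liftCycles_i _ _ _ _))

/-- Cycles of an acyclic bounded below complex of acyclic objects. -/
lemma acE_cycles_of_isStrictlyGE {Z : A} {M : CochainComplex A ℤ} (hM : M.Acyclic)
    (hX : ∀ i, AcE Z (M.X i)) (a : ℤ) [M.IsStrictlyGE a] (i : ℤ) : AcE Z (M.cycles i) := by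
  have key : ∀ (k : ℕ) (i : ℤ), i < a + k → AcE Z (M.cycles i) := by
    intro k
    induction k with
    | zero =>
      intro i hi
      exact acE_of_isZero (IsZero.of_mono (M.iCycles i) (M.isZero_of_isStrictlyGE a i (by simp at hi; lia)))
    | succ k ih =>
      intro i hi p
      obtain ⟨j, rfl⟩ : ∃ j, i = j + 1 := ⟨i - 1, by lia⟩
      have hS := FiniteDim.shortExact_cycSC M j (j + 1) (by simp) (by simp) (hM _)
      have : Subsingleton (Ext.{v} Z (FiniteDim.cycSC M j (j + 1)).X₁ (p + 1 + 1)) :=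
        ih j (by push_cast at hi; lia) (p + 1)
      have : Subsingleton (Ext.{v} Z (FiniteDim.cycSC M j (j + 1)).X₂ (p + 1)) := hX j p
      exact subsingleton_ext_X₃ hS (p + 1)
  exact key (i - a + 1).toNat i (by lia)

/-- Cycles of an acyclic complex of acyclic objects, in finite cohomological dimension. -/
lemma acE_cycles_of_dim {Z : A} (d : ℕ)
    (hd : ∀ (X : A) (p : ℕ), d < p → Subsingleton (Ext.{v} Z X p)) {M : CochainComplex A ℤ}
    (hM : M.Acyclic) (hX : ∀ i, AcE Z (M.X i)) (i : ℤ) : AcE Z (M.cycles i) := by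
  have key : ∀ (k p : ℕ) (i : ℤ), d < p + 1 + k → Subsingleton (Ext.{v} Z (M.cycles i) (p + 1)) := by
    intro k
    induction k with
    | zero => exact fun p i hp => hd _ _ hp
    | succ k ih =>
      intro p i hp
      obtain ⟨j, rfl⟩ : ∃ j, i = j + 1 := ⟨i - 1, by lia⟩
      have hS := FiniteDim.shortExact_cycSC M j (j + 1) (by simp) (by simp) (hM _)
      have : Subsingleton (Ext.{v} Z (FiniteDim.cycSC M j (j + 1)).X₁ (p + 1 + 1)) :=
        ih (p + 1) j (by lia)
      have : Subsingleton (Ext.{v} Z (FiniteDim.cycSC M j (j + 1)).X₂ (p + 1)) := hX j p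
      exact subsingleton_ext_X₃ hS (p + 1)
  exact fun p => key d p i (by lia)

section Cone

variable {K L : CochainComplex A ℤ}

lemma acyclic_mappingCone (φ : K ⟶ L) [QuasiIso φ] : (CochainComplex.mappingCone φ).Acyclic := by
  refine (HomotopyCategory.quotient_obj_mem_subcategoryAcyclic_iff_acyclic _).1 ?_
  refine ((HomotopyCategory.subcategoryAcyclic A).trW_iff_of_distinguished _
    (HomotopyCategory.mappingCone_triangleh_distinguished φ)).1 ?_
  rw [← HomotopyCategory.quasiIso_eq_trW_subcategoryAcyclic]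
  exact (HomotopyCategory.quotient_map_mem_quasiIso_iff φ).2
    ((HomologicalComplex.mem_quasiIso_iff φ).2 inferInstance)

lemma acE_mappingCone {Z : A} (φ : K ⟶ L) (hK : ∀ i, AcE Z (K.X i)) (hL : ∀ i, AcE Z (L.X i))
    (i : ℤ) : AcE Z ((CochainComplex.mappingCone φ).X i) :=
  acE_of_iso (HomologicalComplex.homotopyCofiber.XIsoBiprod φ i (i + 1) rfl).symm
    (acE_biprod (hK _) (hL _))

/-- A quasi-isomorphism with `Hom(Z, cone)` exact in degree `0` is onto on degree `0` classes. -/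
lemma exists_homotopic_cycle {Z : A} (φ : K ⟶ L)
    (hC : ∀ x : Z ⟶ (CochainComplex.mappingCone φ).X 0, x ≫ (CochainComplex.mappingCone φ).d 0 1 = 0 →
      ∃ y, y ≫ (CochainComplex.mappingCone φ).d (-1) 0 = x)
    (x : Z ⟶ L.X 0) (hx : x ≫ L.d 0 1 = 0) :
    ∃ (l : Z ⟶ K.X 0) (w : Z ⟶ L.X (-1)), l ≫ K.d 0 1 = 0 ∧ x = l ≫ φ.f 0 + w ≫ L.d (-1) 0 := by
  open CochainComplex.mappingCone in
  obtain ⟨y, hy⟩ := hC (x ≫ (inr φ).f 0) (by rw [assoc, inr_f_d, reassoc_of% hx, zero_comp])
  open CochainComplex.mappingCone in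
  refine ⟨y ≫ (fst φ).1.v (-1) 0 (by simp), y ≫ (snd φ).v (-1) (-1) (add_zero _), ?_, ?_⟩
  · open CochainComplex.mappingCone in
    have h := congrArg (· ≫ (fst φ).1.v 0 1 (by simp)) hy
    simp only [assoc, inr_f_fst_v, comp_zero, d_fst_v φ (-1) 0 1 (by simp) (by simp),
      Preadditive.neg_comp, Preadditive.comp_neg, neg_eq_zero] at h
    simpa using h
  · open CochainComplex.mappingCone in
    have h := congrArg (· ≫ (snd φ).v 0 0 (add_zero _)) hy
    simp only [assoc, inr_f_snd_v, comp_id, d_snd_v φ (-1) 0 (by simp), Preadditive.comp_add] at h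
    simpa [assoc] using h.symm

end Cone

/-- Maps of complexes `Z[0] ⟶ L` from cycles. -/
noncomputable def ofCycle {Z : A} {L : CochainComplex A ℤ} (x : Z ⟶ L.X 0) (hx : x ≫ L.d 0 1 = 0) :
    (HomologicalComplex.single A (ComplexShape.up ℤ) 0).obj Z ⟶ L :=
  mkHomFromSingle x (by intro k hk; change 0 + 1 = k at hk; subst hk; exact hx)

lemma ofCycle_f {Z : A} {L : CochainComplex A ℤ} (x : Z ⟶ L.X 0) (hx : x ≫ L.d 0 1 = 0) :
    (ofCycle x hx).f 0 = (singleObjXSelf (ComplexShape.up ℤ) 0 Z).hom ≫ x :=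
  mkHomFromSingle_f _ _

lemma exists_ofCycle {Z : A} {L : CochainComplex A ℤ}
    (f : (HomologicalComplex.single A (ComplexShape.up ℤ) 0).obj Z ⟶ L) :
    ∃ x hx, f = ofCycle x hx := by
  refine ⟨(singleObjXSelf (ComplexShape.up ℤ) 0 Z).inv ≫ f.f 0, ?_, from_single_hom_ext ?_⟩
  · rw [assoc, f.comm 0 1]
    simp
  · simp [ofCycle_f]

lemma homotopy_of_boundary {Z : A} {L : CochainComplex A ℤ}
    (f g : (HomologicalComplex.single A (ComplexShape.up ℤ) 0).obj Z ⟶ L) (w : Z ⟶ L.X (-1))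
    (h : f.f 0 = g.f 0 + (singleObjXSelf (ComplexShape.up ℤ) 0 Z).hom ≫ w ≫ L.d (-1) 0) :
    Nonempty (Homotopy f g) := by
  let S := (HomologicalComplex.single A (ComplexShape.up ℤ) 0).obj Z
  let s : ∀ i j : ℤ, (ComplexShape.up ℤ).Rel j i → (S.X i ⟶ L.X j) := fun i j _ =>
    if hi : i = 0 ∧ j = -1 then
      (S.XIsoOfEq hi.1).hom ≫ (singleObjXSelf (ComplexShape.up ℤ) 0 Z).hom ≫ w ≫ (L.XIsoOfEq hi.2).inv
    else 0
  refine ⟨Homotopy.equivSubZero.symm ((Homotopy.ofEq ?_).trans (Homotopy.nullHomotopy' s))⟩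
  refine from_single_hom_ext ?_
  rw [sub_f_apply, h, add_sub_cancel_left,
    Homotopy.nullHomotopicMap'_f (show (ComplexShape.up ℤ).Rel (-1) 0 by simp)
      (show (ComplexShape.up ℤ).Rel 0 1 by simp)]
  simp [s, S]

variable [IsGrothendieckAbelian.{v} A] [HasDerivedCategory.{v} A]

/-- The hypothesis on `Z`: positive `Ext` into a sum of injectives vanishes and maps into a sum
are finite sums. -/
lemma acE_coproduct (Z : A) {ι : Type v} (X : ι → A) [∀ i, Injective (X i)]
    (hZ : ∀ p : ℕ, PreservesColimitsOfShape (Discrete ι) (extFunctorObj.{v} Z p)) :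
    AcE Z (∐ X) := by
  intro p
  have := hZ (p + 1)
  have hc := isColimitCofanMkObjOfIsColimit (extFunctorObj.{v} Z (p + 1)) _ _ (coproductIsCoproduct X)
  have h : 𝟙 ((extFunctorObj.{v} Z (p + 1)).obj (∐ X)) = 0 :=
    Cofan.IsColimit.hom_ext hc _ _ fun i => by
      have : Subsingleton (Ext.{v} Z (X i) (p + 1)) := Ext.subsingleton_of_injective _ _ _
      ext (y : Ext.{v} Z (X i) (p + 1))
      rw [Subsingleton.elim y 0]
      simp
  exact subsingleton_of_forall_eq 0 fun y =>
    DFunLike.congr_fun (congrArg AddCommGrpCat.Hom.hom h) y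

lemma preservesColimitsOfShape_coyoneda {I : Type*} [Category I] (Z : A)
    [PreservesColimitsOfShape I (extFunctorObj.{v} Z 0)] :
    PreservesColimitsOfShape I (preadditiveCoyoneda.obj (op Z)) :=
  preservesColimitsOfShape_of_natIso
    (show extFunctorObj.{v} Z 0 ≅ preadditiveCoyoneda.obj (op Z) from
      NatIso.ofComponents (fun X => Ext.addEquiv₀.toAddCommGrpIso) fun {X Y} f => by
        ext (x : Ext.{v} Z X 0)
        refine Ext.homEquiv₀.symm.injective ?_
        change Ext.mk₀ (Ext.homEquiv₀ (x.comp (Ext.mk₀ f) (add_zero 0))) =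
          Ext.mk₀ (Ext.homEquiv₀ x ≫ f)
        simp only [Ext.mk₀_homEquiv₀_apply, ← Ext.mk₀_comp_mk₀])

/-- A cycle of a direct sum of complexes involves finitely many summands. -/
lemma exists_finite_cycle (Z : A) {ι : Type v} (X : ι → CochainComplex A ℤ)
    [PreservesColimitsOfShape (Discrete ι) (preadditiveCoyoneda.obj (op Z))] (x : Z ⟶ (∐ X).X 0) :
    ∃ S : Finset ι, x = ∑ k ∈ S, (x ≫ (pr X k).f 0) ≫ (Sigma.ι X k).f 0 := by
  classical
  let M : AddSubgroup (Z ⟶ (∐ X).X 0) :=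
    { carrier := {f | ∃ S : Finset ι, ∀ S', S ⊆ S' → f = ∑ k ∈ S', (f ≫ (pr X k).f 0) ≫ (Sigma.ι X k).f 0}
      zero_mem' := ⟨∅, fun S' _ => by simp⟩
      add_mem' := fun {x y} ⟨S, hS⟩ ⟨T, hT⟩ => ⟨S ∪ T, fun S' h => by
        simp only [Preadditive.add_comp, Finset.sum_add_distrib]
        rw [← hS S' (Finset.union_subset_left h), ← hT S' (Finset.union_subset_right h)]⟩
      neg_mem' := fun {x} ⟨S, hS⟩ => ⟨S, fun S' h => by
        simp only [Preadditive.neg_comp, Finset.sum_neg_distrib]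
        rw [← hS S' h]⟩ }
  suffices hM : M = ⊤ by
    obtain ⟨S, hS⟩ := (show x ∈ M by rw [hM]; exact AddSubgroup.mem_top x)
    exact ⟨S, hS S subset_rfl⟩
  have hc := isColimitCofanMkObjOfIsColimit
    (HomologicalComplex.eval A (ComplexShape.up ℤ) 0 ⋙ preadditiveCoyoneda.obj (op Z)) _ _
    (coproductIsCoproduct X)
  have h0 : (AddCommGrpCat.ofHom (QuotientAddGroup.mk' M) :
      (HomologicalComplex.eval A (ComplexShape.up ℤ) 0 ⋙ preadditiveCoyoneda.obj (op Z)).obj (∐ X) ⟶
        AddCommGrpCat.of ((Z ⟶ (∐ X).X 0) ⧸ M)) = 0 :=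
    Cofan.IsColimit.hom_ext hc _ _ fun k => AddCommGrpCat.hom_ext (AddMonoidHom.ext fun (y : Z ⟶ (X k).X 0) =>
      (QuotientAddGroup.eq_zero_iff (y ≫ (Sigma.ι X k).f 0)).2 ⟨{k}, fun S' h => by
        rw [Finset.sum_eq_single k]
        · rw [assoc y, ← comp_f, ι_pr, id_f, comp_id]
        · intro i _ hi
          rw [assoc y, ← comp_f, ι_pr_ne X (Ne.symm hi), zero_f, comp_zero, zero_comp]
        · exact fun hk => absurd (h (Finset.mem_singleton_self k)) hk⟩)
  exact eq_top_iff.2 fun x _ => (QuotientAddGroup.eq_zero_iff x).1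
    (DFunLike.congr_fun (congrArg AddCommGrpCat.Hom.hom h0) x)

open DerivedCategory

/-- Surjectivity of `Hom(Z[0], L) → Hom_D(Z[0], L)` given a good resolution. -/
lemma exists_Q_map_eq {Z : A} {L J : CochainComplex A ℤ} [J.IsKInjective] (φ : L ⟶ J) [QuasiIso φ]
    (hC : AcE Z ((CochainComplex.mappingCone φ).cycles (-1)))
    (a : Q.obj ((HomologicalComplex.single A (ComplexShape.up ℤ) 0).obj Z) ⟶ Q.obj L) :
    ∃ x hx, a = Q.map (ofCycle x hx) := by
  obtain ⟨g, hg⟩ := Q_map_surjective_of_isKInjective (a ≫ Q.map φ)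
  obtain ⟨x, hx, rfl⟩ := exists_ofCycle g
  obtain ⟨l, w, hl, he⟩ := exists_homotopic_cycle φ (exists_d_of_cycles (acyclic_mappingCone φ) hC) x hx
  refine ⟨l, hl, ?_⟩
  rw [← cancel_mono (Q.map φ), ← hg, ← Functor.map_comp]
  obtain ⟨H⟩ := homotopy_of_boundary (ofCycle x hx) (ofCycle l hl ≫ φ) w
    (by rw [comp_f, ofCycle_f, ofCycle_f, assoc, ← Preadditive.comp_add, he])
  exact Q_map_eq_of_homotopy _ H

lemma exists_desc {ι : Type v} (X : ι → CochainComplex A ℤ) {T : DerivedCategory A}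
    (g : ∀ i, Q.obj (X i) ⟶ T) :
    ∃ m : Q.obj (∐ X) ⟶ T, ∀ i, Q.map (Sigma.ι X i) ≫ m = g i := by
  obtain ⟨J, f, hJ, hf, -⟩ := exists_kinjective_resolution (Q.objPreimage T)
  let e : Q.obj J ≅ T := (asIso (Q.map f)).symm ≪≫ Q.objObjPreimageIso T
  choose h hh using fun i => Q_map_surjective_of_isKInjective (g i ≫ e.inv)
  exact ⟨Q.map (Sigma.desc h) ≫ e.hom, fun i => by
    rw [← Functor.map_comp_assoc, Sigma.ι_desc, hh, assoc, e.inv_hom_id, comp_id]⟩

lemma injective_homSum {D : Type*} [Category.{v} D] [Preadditive D] (K : D) {ι : Type v} (X : ι → D)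
    [HasCoproduct X] : Function.Injective (CohDer.homSumToHomCoprod K X) := by
  classical
  rw [injective_iff_map_eq_zero]
  intro w hw
  refine DFinsupp.ext fun i => ?_
  have h : ∀ w : DirectSum ι fun i => K ⟶ X i,
      CohDer.homSumToHomCoprod K X w ≫ pr X i = w i := by
    intro w
    induction w using DirectSum.induction_on with
    | zero => simp
    | of j y =>
      rw [CohDer.homSumToHomCoprod]
      erw [DirectSum.toAddMonoid_of]
      change (y ≫ Sigma.ι X j) ≫ pr X i = _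
      by_cases hji : j = i
      · subst hji
        rw [assoc, ι_pr, comp_id, DirectSum.of_eq_same]
      · rw [assoc, ι_pr_ne X hji, comp_zero, DirectSum.of_eq_of_ne _ _ _ (Ne.symm hji)]
    | add x y hx hy =>
      rw [map_add, Preadditive.add_comp, hx, hy]
      rfl
  rw [← h w, hw, zero_comp]
  rfl

/-- Direct sums of K-injective complexes with a good resolution of their sum. -/
lemma bijective_homSum {Z : A} {ι : Type v} (M : ι → DerivedCategory A) [HasCoproduct M]
    [PreservesColimitsOfShape (Discrete ι) (preadditiveCoyoneda.obj (op Z))]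
    (I : ι → CochainComplex A ℤ) (e : ∀ i, M i ≅ Q.obj (I i))
    {J : CochainComplex A ℤ} [J.IsKInjective] (φ : ∐ I ⟶ J) [QuasiIso φ]
    (hC : AcE Z ((CochainComplex.mappingCone φ).cycles (-1))) :
    Function.Bijective (CohDer.homSumToHomCoprod ((singleFunctor A 0).obj Z) M) := by
  classical
  refine ⟨injective_homSum _ M, fun a => ?_⟩
  let c : ∐ M ⟶ Q.obj (∐ I) := Sigma.desc fun i => (e i).hom ≫ Q.map (Sigma.ι I i)
  obtain ⟨m, hm⟩ := exists_desc I fun i => (e i).inv ≫ Sigma.ι M i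
  have hcm : c ≫ m = 𝟙 _ := Sigma.hom_ext _ _ fun i => by simp [c, hm]
  obtain ⟨x, hx, hax⟩ := exists_Q_map_eq φ hC (a ≫ c)
  obtain ⟨S, hS⟩ := exists_finite_cycle Z I x
  have hk : ∀ k, (x ≫ (pr I k).f 0) ≫ (I k).d 0 1 = 0 := fun k => by
    rw [assoc, (pr I k).comm 0 1, reassoc_of% hx, zero_comp]
  refine ⟨∑ k ∈ S, DirectSum.of (fun i => (singleFunctor A 0).obj Z ⟶ M i) k
    (Q.map (ofCycle _ (hk k)) ≫ (e k).inv), ?_⟩
  rw [map_sum]
  have hsum : ofCycle x hx = ∑ k ∈ S, ofCycle _ (hk k) ≫ Sigma.ι I k := by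
    refine from_single_hom_ext ?_
    rw [ofCycle_f, show (∑ k ∈ S, ofCycle _ (hk k) ≫ Sigma.ι I k).f 0 = ∑ k ∈ S, (ofCycle _ (hk k) ≫ Sigma.ι I k).f 0 from
      (HomologicalComplex.eval A (ComplexShape.up ℤ) 0).map_sum (fun k => ofCycle _ (hk k) ≫ Sigma.ι I k) S]
    simp only [comp_f, ofCycle_f, assoc, ← Preadditive.comp_sum]
    simpa [assoc, Preadditive.comp_sum] using congrArg ((singleObjXSelf (ComplexShape.up ℤ) 0 Z).hom ≫ ·) hS
  calc ∑ k ∈ S, CohDer.homSumToHomCoprod ((singleFunctor A 0).obj Z) M (DirectSum.of _ k _)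
      = ∑ k ∈ S, Q.map (ofCycle _ (hk k)) ≫ (e k).inv ≫ Sigma.ι M k :=
        Finset.sum_congr rfl fun k _ => by
          rw [CohDer.homSumToHomCoprod]
          erw [DirectSum.toAddMonoid_of]
          exact assoc _ _ _
    _ = Q.map (ofCycle x hx) ≫ m := by
          rw [hsum, Functor.map_sum, Preadditive.sum_comp]
          exact Finset.sum_congr rfl fun k _ => by rw [Functor.map_comp, assoc, hm]
    _ = a := by rw [← hax, assoc, hcm, comp_id]

theorem isCompactObject_single [HasCoproducts.{v} (DerivedCategory A)] (Z : A) (d : ℕ)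
    (hd : ∀ (X : A) (p : ℕ), d < p → Subsingleton (Ext.{v} Z X p))
    (hs : ∀ (p : ℕ) (ι : Type v), PreservesColimitsOfShape (Discrete ι) (extFunctorObj.{v} Z p)) :
    CohDer.IsCompactObject ((singleFunctor A 0).obj Z) := by
  intro ι M
  choose I f hI hf hmono hinj using fun i => exists_kinjective_resolution (Q.objPreimage (M i))
  have e : ∀ i, M i ≅ Q.obj (I i) := fun i =>
    have := hf i
    (Q.objObjPreimageIso (M i)).symm ≪≫ asIso (Q.map (f i))
  obtain ⟨J, φ, hJ, hφ, -, hJinj⟩ := exists_kinjective_resolution (∐ I)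
  have := hs 0 ι
  have := preservesColimitsOfShape_coyoneda (I := Discrete ι) Z
  refine bijective_homSum M I e φ (acE_cycles_of_dim d hd (acyclic_mappingCone φ)
    (acE_mappingCone φ (fun n => ?_) fun n => ?_) _)
  · have : ∀ i, Injective ((HomologicalComplex.eval A (ComplexShape.up ℤ) n).obj (I i)) := fun i => hinj i n
    exact acE_of_iso (PreservesCoproduct.iso (HomologicalComplex.eval A (ComplexShape.up ℤ) n) I).symm
      (acE_coproduct Z _ fun p => hs p ι)
  · have := hJinj n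
    exact acE_of_injective _ _

theorem bijective_homSum_of_isGE (Z : A)
    (hs : ∀ (p : ℕ) (ι : Type v), PreservesColimitsOfShape (Discrete ι) (extFunctorObj.{v} Z p))
    {ι : Type v} (M : ι → DerivedCategory A) [HasCoproduct M] (a : ℤ) (hM : ∀ i, (M i).IsGE a) :
    Function.Bijective (CohDer.homSumToHomCoprod ((singleFunctor A 0).obj Z) M) := by
  have hcog : ∀ X : A, ∃ (Y : A) (i : X ⟶ Y), Injective Y ∧ Mono i := fun X =>
    ⟨_, Injective.ι X, inferInstance, inferInstance⟩
  have h0 : ∃ X : A, IsZero X ∧ Injective X := ⟨0, isZero_zero A, inferInstance⟩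
  have hrep : ∀ i, ∃ I : CochainComplex A ℤ, I.IsStrictlyGE a ∧ (∀ n, Injective (I.X n)) ∧
      Nonempty (M i ≅ Q.obj I) := fun i => by
    have := hM i
    obtain ⟨K, hK, ⟨e⟩⟩ := exists_iso_Q_obj_of_isGE (M i) a
    obtain ⟨I, f, hI, hinj, -, hf⟩ := exists_resolution (fun X => Injective X) hcog K h0 a
    exact ⟨I, hI, hinj, ⟨e ≪≫ asIso (Q.map f)⟩⟩
  choose I hI hinj e using hrep
  have : (∐ I).IsStrictlyGE a := by
    rw [CochainComplex.isStrictlyGE_iff]
    intro n hn
    refine IsZero.of_iso ?_ (PreservesCoproduct.iso (HomologicalComplex.eval A (ComplexShape.up ℤ) n) I)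
    rw [IsZero.iff_id_eq_zero]
    exact Sigma.hom_ext _ _ fun i => ((I i).isZero_of_isStrictlyGE a n hn).eq_of_src _ _
  obtain ⟨J, φ, hJ, hJinj, -, hφ⟩ := exists_resolution (fun X => Injective X) hcog (∐ I) h0 a
  have := fun n => hJinj n
  have : J.IsKInjective := CochainComplex.isKInjective_of_injective J a
  have := hs 0 ι
  have := preservesColimitsOfShape_coyoneda (I := Discrete ι) Z
  have := CochainComplex.isStrictlyGE_mappingCone φ a a (a - 1)
  refine bijective_homSum M I (fun i => (e i).some) φ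
    (acE_cycles_of_isStrictlyGE (acyclic_mappingCone φ) (acE_mappingCone φ (fun n => ?_) fun n => ?_) (a - 1) _)
  · have : ∀ i, Injective ((HomologicalComplex.eval A (ComplexShape.up ℤ) n).obj (I i)) := fun i => hinj i n
    exact acE_of_iso (PreservesCoproduct.iso (HomologicalComplex.eval A (ComplexShape.up ℤ) n) I).symm
      (acE_coproduct Z _ fun p => hs p ι)
  · exact acE_of_injective _ _

end Groth.Agent.SiteCoh
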