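import Mathlib.CategoryTheory.Sites.ConstantSheaf
import Mathlib.CategoryTheory.Sites.LocallyBijective
import Mathlib.Algebra.Category.ModuleCat.Limits
import Mathlib.Algebra.Category.ModuleCat.FilteredColimits
import Mathlib.RingTheory.Flat.Tensor
import Mathlib.Algebra.Module.FinitePresentation
import Mathlib.LinearAlgebra.TensorProduct.RightExactness
import Mathlib.CategoryTheory.Sites.LeftExact
import Mathlib.CategoryTheory.ConcreteCategory.EpiMono

/-!
Sections of constant sheaves of modules.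

A map of sets `N → N'` induces a map on sections of the constant sheaves; hence taking sections
over an object is exact, and commutes with tensoring by a finitely presented module.
-/

universe u

open CategoryTheory CategoryTheory.Limits Opposite

namespace Groth.Agent.SiteCoh.ConstSect

variable {C : Type u} [SmallCategory C] (J : GrothendieckTopology C) {Λ : Type u} [CommRing Λ]

/-- The constant sheaf on a module. -/
noncomputable abbrev cs (N : ModuleCat.{u} Λ) : Sheaf J (ModuleCat.{u} Λ) :=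
  (constantSheaf J (ModuleCat.{u} Λ)).obj N

/-- Its sections. -/
noncomputable abbrev sec (N : ModuleCat.{u} Λ) (U : C) : ModuleCat.{u} Λ := (cs J N).obj.obj (op U)

/-- Restriction. -/
noncomputable abbrev rs {N : ModuleCat.{u} Λ} {U V : C} (v : V ⟶ U) : sec J N U →ₗ[Λ] sec J N V :=
  ((cs J N).obj.map v.op).hom

/-- A constant section. -/
noncomputable def cst {N : ModuleCat.{u} Λ} (U : C) : N →ₗ[Λ] sec J N U :=
  ((toSheafify J ((Functor.const Cᵒᵖ).obj N)).app (op U)).hom

variable {J}

lemma rs_cst {N : ModuleCat.{u} Λ} {U V : C} (v : V ⟶ U) (n : N) :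
    rs J v (cst J U n) = cst J V n :=
  (congr($((toSheafify J ((Functor.const Cᵒᵖ).obj N)).naturality v.op) n)).symm

lemma rs_rs {N : ModuleCat.{u} Λ} {U V W : C} (v : V ⟶ U) (w : W ⟶ V) (s : sec J N U) :
    rs J w (rs J v s) = rs J (w ≫ v) s := by
  rw [show rs J (N := N) (w ≫ v) s = ((cs J N).obj.map (v.op ≫ w.op)).hom s from rfl, Functor.map_comp]
  rfl

lemma sec_ext {N : ModuleCat.{u} Λ} {U : C} {S : Sieve U} (hS : S ∈ J U) {s t : sec J N U}
    (h : ∀ ⦃V : C⦄ (v : V ⟶ U), S v → rs J v s = rs J v t) : s = t :=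
  (((isSheaf_iff_isSheaf_of_type _ _).1 ((sheafCompose J (forget (ModuleCat.{u} Λ))).obj
    (cs J N)).2).isSeparated S hS).ext h

lemma exists_cst {N : ModuleCat.{u} Λ} {U : C} (s : sec J N U) :
    ∃ S ∈ J U, ∀ ⦃V : C⦄ (v : V ⟶ U), S v → ∃ n : N, cst J V n = rs J v s :=
  ⟨_, Presheaf.imageSieve_mem J (toSheafify J ((Functor.const Cᵒᵖ).obj N)) (U := op U) s,
    fun _ _ hv => hv⟩

/-- Equal constant sections have equal values, unless the object is covered by nothing. -/
lemma eq_or_bot {N : ModuleCat.{u} Λ} {U : C} {n n' : N} (h : cst J U n = cst J U n') :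
    n = n' ∨ (⊥ : Sieve U) ∈ J U := by
  by_cases hn : n = n'
  · exact Or.inl hn
  · exact Or.inr (J.superset_covering (fun V v hv => (hn hv).elim)
      (Presheaf.equalizerSieve_mem J (toSheafify J ((Functor.const Cᵒᵖ).obj N)) (X := op U) n n' h))

lemma sec_eq_of_bot {N : ModuleCat.{u} Λ} {U : C} (h : (⊥ : Sieve U) ∈ J U) (s t : sec J N U) : s = t :=
  sec_ext h fun _ _ hv => hv.elim

variable {N N' : ModuleCat.{u} Λ}

lemma cst_map_eq (σ : N → N') {U : C} {n n' : N} (h : cst J U n = cst J U n') :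
    cst J U (σ n) = cst J U (σ n') :=
  (eq_or_bot h).elim (fun e => by rw [e]) (fun hb => sec_eq_of_bot hb _ _)

/-- `t` is the image of `s` under the map induced by `σ`. -/
def IsImage (σ : N → N') {U : C} (s : sec J N U) (t : sec J N' U) : Prop :=
  ∀ ⦃V : C⦄ (v : V ⟶ U) (n : N), cst J V n = rs J v s → rs J v t = cst J V (σ n)

lemma IsImage.unique {σ : N → N'} {U : C} {s : sec J N U} {t t' : sec J N' U} (h : IsImage σ s t)
    (h' : IsImage σ s t') : t = t' := by
  obtain ⟨S, hS, hn⟩ := exists_cst s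
  refine sec_ext hS fun V v hv => ?_
  obtain ⟨n, hn⟩ := hn v hv
  exact (h v n hn).trans (h' v n hn).symm

lemma exists_isImage (σ : N → N') {U : C} (s : sec J N U) : ∃ t : sec J N' U, IsImage σ s t := by
  obtain ⟨S, hS, hn⟩ := exists_cst s
  choose n hn using hn
  let P := (sheafCompose J (forget (ModuleCat.{u} Λ))).obj (cs J N')
  let x₀ : ∀ ⦃V : C⦄ (v : V ⟶ U), S v → sec J N' V := fun V v hv => cst J V (σ (n v hv))
  let x : Presieve.FamilyOfElements P.obj S.arrows := fun V v hv => x₀ v hv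
  have hx : x.Compatible := by
    intro Y₁ Y₂ Z g₁ g₂ f₁ f₂ h₁ h₂ comm
    change rs J g₁ (cst J Y₁ _) = rs J g₂ (cst J Y₂ _)
    rw [rs_cst, rs_cst]
    apply cst_map_eq
    rw [← rs_cst g₁, ← rs_cst g₂, hn, hn, rs_rs, rs_rs, comm]
  have hP : Presieve.IsSheaf J P.obj := (isSheaf_iff_isSheaf_of_type _ _).1 P.2
  obtain ⟨t, ht, -⟩ := hP S hS x hx
  refine ⟨t, fun V v m hm => sec_ext (J.pullback_stable v hS) fun W w hw => ?_⟩
  rw [rs_rs, rs_cst]
  refine (ht (w ≫ v) hw).trans (cst_map_eq σ ?_)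
  rw [hn, ← rs_cst w, hm, rs_rs]

/-- The map on sections induced by a map of underlying sets. -/
noncomputable def smap (σ : N → N') (U : C) (s : sec J N U) : sec J N' U :=
  (exists_isImage σ s).choose

lemma smap_spec (σ : N → N') {U : C} (s : sec J N U) : IsImage σ s (smap σ U s) :=
  (exists_isImage σ s).choose_spec

lemma smap_smap {N'' : ModuleCat.{u} Λ} (σ : N → N') (τ : N' → N'') {U : C} (s : sec J N U) :
    smap τ U (smap σ U s) = smap (τ ∘ σ) U s :=
  IsImage.unique (fun _ v n hn => smap_spec τ (smap σ _ s) v (σ n) (smap_spec σ s v n hn).symm)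
    (smap_spec (τ ∘ σ) s)

variable (J)

/-- The map on sections induced by a linear map. -/
noncomputable def cmap (f : N ⟶ N') (U : C) : sec J N U →ₗ[Λ] sec J N' U :=
  (((constantSheaf J (ModuleCat.{u} Λ)).map f).hom.app (op U)).hom

variable {J}

lemma cmap_cst (f : N ⟶ N') (U : C) (n : N) : cmap J f U (cst J U n) = cst J U (f n) :=
  (congr($(toSheafify_naturality J ((Functor.const Cᵒᵖ).map f)).app (op U) n)).symm

lemma rs_cmap (f : N ⟶ N') {U V : C} (v : V ⟶ U) (s : sec J N U) :
    rs J v (cmap J f U s) = cmap J f V (rs J v s) :=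
  (congr($(((constantSheaf J (ModuleCat.{u} Λ)).map f).hom.naturality v.op) s)).symm

lemma cmap_eq_smap (f : N ⟶ N') {U : C} (s : sec J N U) : cmap J f U s = smap (fun n => f n) U s := by
  refine IsImage.unique (fun V v n hn => ?_) (smap_spec _ s)
  rw [rs_cmap, ← hn, cmap_cst]

lemma cmap_ext {f g : N ⟶ N'} {U : C} {s : sec J N U} {t : sec J N' U}
    (h : ∀ ⦃V : C⦄ (v : V ⟶ U) (n : N), cst J V n = rs J v s → rs J v t = cst J V (f n)) :
    t = cmap J f U s := by
  rw [cmap_eq_smap]
  exact IsImage.unique h (smap_spec _ s)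

/-- Sections of constant sheaves of an exact sequence are exact. -/
lemma exact_cmap {N'' : ModuleCat.{u} Λ} (f : N ⟶ N') (g : N' ⟶ N'') (h : Function.Exact f g) (U : C) :
    Function.Exact (cmap J f U) (cmap J g U) := by
  classical
  intro s
  constructor
  · intro hs
    let τ : N' → N := fun n' => if hn : ∃ n, f n = n' then hn.choose else 0
    refine ⟨smap τ U s, ?_⟩
    rw [cmap_eq_smap, smap_smap]
    refine IsImage.unique (smap_spec _ s) fun V v n' hn' => ?_
    rw [← hn']
    have h0 : cst J V (g n') = cst J V 0 := by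
      rw [← cmap_cst, hn', ← rs_cmap, hs, map_zero, map_zero]
    refine (eq_or_bot h0).elim (fun e => ?_) (fun hb => sec_eq_of_bot hb _ _)
    have he : ∃ n, f n = n' := (h n').1 e
    simp only [Function.comp_apply, τ, dif_pos he, he.choose_spec]
  · rintro ⟨r, rfl⟩
    rw [cmap_eq_smap, cmap_eq_smap, smap_smap]
    refine IsImage.unique (smap_spec _ r) fun V v n hn => ?_
    rw [map_zero]
    simp [h.apply_apply_eq_zero]

lemma surjective_cmap (f : N ⟶ N') (hf : Function.Surjective f) (U : C) :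
    Function.Surjective (cmap J f U) := by
  intro s
  choose τ hτ using hf
  refine ⟨smap τ U s, ?_⟩
  rw [cmap_eq_smap, smap_smap]
  refine IsImage.unique (smap_spec _ s) fun V v n hn => ?_
  rw [← hn]
  simp [hτ]

lemma injective_cmap (f : N ⟶ N') (hf : Function.Injective f) (U : C) :
    Function.Injective (cmap J f U) := by
  rw [injective_iff_map_eq_zero]
  intro s hs
  obtain ⟨S, hS, hn⟩ := exists_cst s
  refine sec_ext hS fun V v hv => ?_
  obtain ⟨n, hn⟩ := hn v hv
  rw [map_zero, ← hn]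
  have h0 : cst J V (f n) = cst J V 0 := by
    rw [← cmap_cst, hn, ← rs_cmap, hs, map_zero, map_zero]
  exact (eq_or_bot h0).elim (fun e => by rw [hf (e.trans (map_zero f.hom).symm), map_zero])
    (fun hb => sec_eq_of_bot hb _ _)

lemma cmap_comp {N'' : ModuleCat.{u} Λ} (f : N ⟶ N') (g : N' ⟶ N'') {U : C} (s : sec J N U) :
    cmap J g U (cmap J f U s) = cmap J (f ≫ g) U s := by
  rw [cmap_eq_smap, cmap_eq_smap, smap_smap, cmap_eq_smap]
  rfl

lemma cmap_id {U : C} (s : sec J N U) : cmap J (𝟙 N) U s = s :=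
  (cmap_ext (g := 𝟙 N) fun _ _ _ hn => hn.symm).symm

lemma cmap_add (f g : N ⟶ N') {U : C} (s : sec J N U) :
    cmap J (f + g) U s = cmap J f U s + cmap J g U s := by
  refine (cmap_ext (g := f) fun V v n hn => ?_).symm
  rw [map_add, rs_cmap, rs_cmap, ← hn, cmap_cst, cmap_cst, ← map_add]
  rfl

lemma cmap_smul (a : Λ) (f : N ⟶ N') {U : C} (s : sec J N U) :
    cmap J (a • f) U s = a • cmap J f U s := by
  refine (cmap_ext (g := f) fun V v n hn => ?_).symm
  rw [map_smul, rs_cmap, ← hn, cmap_cst, ← map_smul]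
  rfl

lemma cmap_sum {ι : Type*} (S : Finset ι) (f : ι → (N ⟶ N')) {U : C} (s : sec J N U) :
    cmap J (∑ i ∈ S, f i) U s = ∑ i ∈ S, cmap J (f i) U s := by
  classical
  induction S using Finset.induction with
  | empty =>
    simp only [Finset.sum_empty]
    refine (cmap_ext (g := (0 : N ⟶ N')) fun V v n _ => ?_).symm
    simp
  | insert a S ha ih => rw [Finset.sum_insert ha, cmap_add, ih, Finset.sum_insert ha]

section Tensor

open TensorProduct

variable (J) (M : Type u) [AddCommGroup M] [Module Λ M]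

/-- Tensoring with a fixed element. -/
noncomputable abbrev tq {Q : Type u} [AddCommGroup Q] [Module Λ Q] (q : Q) :
    ModuleCat.of Λ M ⟶ ModuleCat.of Λ (M ⊗[Λ] Q) :=
  ModuleCat.ofHom ((TensorProduct.mk Λ M Q).flip q)

/-- The comparison map. -/
noncomputable def theta (Q : Type u) [AddCommGroup Q] [Module Λ Q] (U : C) :
    sec J (ModuleCat.of Λ M) U ⊗[Λ] Q →ₗ[Λ] sec J (ModuleCat.of Λ (M ⊗[Λ] Q)) U :=
  TensorProduct.lift (LinearMap.mk₂ Λ (fun s q => cmap J (tq M q) U s)
    (fun s s' q => map_add _ s s') (fun a s q => map_smul _ a s)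
    (fun s q q' => by
      rw [← cmap_add]
      exact congrArg (fun z => cmap J z U s) (ModuleCat.hom_ext (map_add ((TensorProduct.mk Λ M Q).flip) q q')))
    (fun a s q => by
      rw [← cmap_smul]
      exact congrArg (fun z => cmap J z U s) (ModuleCat.hom_ext (map_smul ((TensorProduct.mk Λ M Q).flip) a q))))

variable {J M}

lemma theta_tmul {Q : Type u} [AddCommGroup Q] [Module Λ Q] {U : C} (s : sec J (ModuleCat.of Λ M) U) (q : Q) :
    theta J M Q U (s ⊗ₜ q) = cmap J (tq M q) U s := rfl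

lemma theta_natural {Q Q' : Type u} [AddCommGroup Q] [Module Λ Q] [AddCommGroup Q'] [Module Λ Q']
    (p : Q →ₗ[Λ] Q') {U : C} (x : sec J (ModuleCat.of Λ M) U ⊗[Λ] Q) :
    theta J M Q' U (p.lTensor _ x) = cmap J (ModuleCat.ofHom (p.lTensor M)) U (theta J M Q U x) := by
  induction x with
  | zero => simp only [map_zero]
  | add a b ha hb => simp only [map_add, ha, hb]
  | tmul s q =>
    rw [LinearMap.lTensor_tmul, theta_tmul, theta_tmul, cmap_comp]
    rfl

lemma bijective_theta_free (ι : Type u) [Fintype ι] (U : C) :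
    Function.Bijective (theta (Λ := Λ) J M (ι → Λ) U) := by
  classical
  let π : ι → (ModuleCat.of Λ (M ⊗[Λ] (ι → Λ)) ⟶ ModuleCat.of Λ M) := fun i =>
    ModuleCat.ofHom ((TensorProduct.rid Λ M).toLinearMap ∘ₗ (LinearMap.proj i).lTensor M)
  let inv : sec J (ModuleCat.of Λ (M ⊗[Λ] (ι → Λ))) U → sec J (ModuleCat.of Λ M) U ⊗[Λ] (ι → Λ) :=
    fun w => ∑ i, cmap J (π i) U w ⊗ₜ[Λ] (Pi.single i (1 : Λ))
  have h1 : ∀ x, inv (theta J M (ι → Λ) U x) = x := by
    intro x
    induction x with
    | zero => simp [inv]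
    | add a b ha hb =>
      simp only [inv, map_add, TensorProduct.add_tmul, Finset.sum_add_distrib]
      exact congrArg₂ (· + ·) ha hb
    | tmul s q =>
      simp only [inv, theta_tmul, cmap_comp]
      have h2 : ∀ i, tq M q ≫ π i = q i • 𝟙 (ModuleCat.of Λ M) := fun i =>
        ModuleCat.hom_ext (LinearMap.ext fun m => by simp [π])
      simp only [h2, cmap_smul, cmap_id, TensorProduct.smul_tmul, ← TensorProduct.tmul_sum]
      refine congrArg (s ⊗ₜ[Λ] ·) ?_
      ext j
      simp [Pi.single_apply]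
  have h3 : ∀ w, theta J M (ι → Λ) U (inv w) = w := by
    intro w
    simp only [inv, map_sum, theta_tmul, cmap_comp, ← cmap_sum]
    refine Eq.trans ?_ (cmap_id w)
    refine congrArg (fun z => cmap J z U w) (ModuleCat.hom_ext ?_)
    refine TensorProduct.ext' fun m q => ?_
    simp only [ModuleCat.hom_sum, LinearMap.coe_sum, Finset.sum_apply]
    refine Eq.trans (Finset.sum_congr rfl (g := fun i => (q i • m) ⊗ₜ[Λ] Pi.single i (1 : Λ))
      fun i _ => ?_) ?_
    · simp [π, TensorProduct.smul_tmul']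
    simp only [TensorProduct.smul_tmul, ← TensorProduct.tmul_sum]
    refine congrArg (m ⊗ₜ[Λ] ·) ?_
    ext j
    simp [Pi.single_apply]
  exact Function.bijective_iff_has_inverse.2 ⟨inv, h1, h3⟩

lemma bijective_theta (Q : Type u) [AddCommGroup Q] [Module Λ Q] [Module.FinitePresentation Λ Q] (U : C) :
    Function.Bijective (theta (Λ := Λ) J M Q U) := by
  obtain ⟨n, m, p, r, hp, hex⟩ := Module.FinitePresentation.exists_fin' Λ Q
  let e : (ULift.{u} (Fin n) → Λ) ≃ₗ[Λ] (Fin n → Λ) := LinearEquiv.funCongrLeft Λ Λ Equiv.ulift.symm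
  let e' : (ULift.{u} (Fin m) → Λ) ≃ₗ[Λ] (Fin m → Λ) := LinearEquiv.funCongrLeft Λ Λ Equiv.ulift.symm
  let P : (ULift.{u} (Fin n) → Λ) →ₗ[Λ] Q := p ∘ₗ e.toLinearMap
  let R : (ULift.{u} (Fin m) → Λ) →ₗ[Λ] (ULift.{u} (Fin n) → Λ) := e.symm.toLinearMap ∘ₗ r ∘ₗ e'.toLinearMap
  have hP : Function.Surjective P := hp.comp e.surjective
  have hRP : Function.Exact R P := by
    intro y
    constructor
    · intro hy
      obtain ⟨z, hz⟩ := (hex (e y)).1 hy
      refine ⟨e'.symm z, ?_⟩
      simp [R, hz]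
    · rintro ⟨z, rfl⟩
      simp [R, P, hex.apply_apply_eq_zero]
  have hex' : Function.Exact (R.lTensor M) (P.lTensor M) := lTensor_exact M hRP hP
  have hex'' : Function.Exact (R.lTensor (sec J (ModuleCat.of Λ M) U)) (P.lTensor _) :=
    lTensor_exact _ hRP hP
  have hb := bijective_theta_free (J := J) (Λ := Λ) (M := M) (ULift.{u} (Fin n)) U
  constructor
  · rw [injective_iff_map_eq_zero]
    intro x hx
    obtain ⟨x', rfl⟩ := LinearMap.lTensor_surjective _ hP x
    rw [theta_natural] at hx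
    obtain ⟨z, hz⟩ := (exact_cmap (ModuleCat.ofHom (R.lTensor M)) (ModuleCat.ofHom (P.lTensor M)) hex' U _).1 hx
    obtain ⟨z', rfl⟩ := (bijective_theta_free (J := J) (Λ := Λ) (M := M) (ULift.{u} (Fin m)) U).2 z
    rw [← theta_natural] at hz
    exact (hex'' x').2 ⟨z', hb.1 hz⟩
  · intro y
    obtain ⟨w, rfl⟩ := surjective_cmap (ModuleCat.ofHom (P.lTensor M)) (LinearMap.lTensor_surjective _ hP) U y
    obtain ⟨x, rfl⟩ := hb.2 w
    exact ⟨P.lTensor _ x, theta_natural P x⟩

variable (J M)

theorem flat_sec (hΛ : ∀ I : Ideal Λ, I.FG → Module.FinitePresentation Λ I) [Module.Flat Λ M] (U : C) :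
    Module.Flat Λ (sec J (ModuleCat.of Λ M) U) := by
  rw [Module.Flat.iff_lTensor_injective]
  intro I hI
  have := hΛ I hI
  refine fun a b h => (bijective_theta (J := J) (M := M) I U).1 ?_
  apply injective_cmap (ModuleCat.ofHom (I.subtype.lTensor M))
    (Module.Flat.lTensor_preserves_injective_linearMap _ I.injective_subtype) U
  exact (theta_natural I.subtype a).symm.trans ((congrArg (theta J M Λ U) h).trans (theta_natural I.subtype b))

end Tensor

end Groth.Agent.SiteCoh.ConstSect
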